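import Cfsg.Agent.H78.M22R.Tools

/-! Fixed points of an element of order three acting by conjugation. -/

set_option autoImplicit false
set_option linter.style.haveILetI false

namespace H78.M22R

open Subgroup

variable {G : Type*} [Group G] [Finite G]

omit [Finite G] in
theorem conj_closed {z : G} (hz : orderOf z = 3) {S : Set G} (hS : ∀ g ∈ S, z * g * z⁻¹ ∈ S)
    {k : G} (hk : k ∈ zpowers z) {g : G} (hg : g ∈ S) : k * g * k⁻¹ ∈ S := by
  rcases mem_zpowers_three hz hk with rfl | rfl | rfl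
  · simpa using hg
  · exact hS g hg
  · have h2 := hS _ (hS g hg)
    have h3 : z ^ 3 = 1 := by rw [← hz]; exact pow_orderOf_eq_one z
    have e : z⁻¹ = z * z := inv_eq_of_mul_eq_one_right (by rw [← h3, pow_succ, pow_two]; group)
    rw [e]
    convert h2 using 1
    group

theorem fixed_count {z : G} (hz : orderOf z = 3) {S : Set G} (hS : ∀ g ∈ S, z * g * z⁻¹ ∈ S) :
    Nat.card S ≡ Nat.card {g : G // g ∈ S ∧ Commute g z} [MOD 3] := by
  haveI : Fact (Nat.Prime 3) := ⟨Nat.prime_three⟩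
  let act : MulAction (zpowers z) S :=
    { smul := fun k g => ⟨k.1 * g.1 * k.1⁻¹, conj_closed hz hS k.2 g.2⟩
      one_smul := fun g => Subtype.ext (show (1 : G) * g.1 * (1 : G)⁻¹ = g.1 by group)
      mul_smul := fun k l g => Subtype.ext
        (show (k.1 * l.1) * g.1 * (k.1 * l.1)⁻¹ = k.1 * (l.1 * g.1 * l.1⁻¹) * k.1⁻¹ by group) }
  have hp : IsPGroup 3 (zpowers z) := isPGroup_zpowers hz
  have h := hp.card_modEq_card_fixedPoints (α := S)
  refine h.trans (congrArg (fun n => n % 3) (Nat.card_congr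
    { toFun := fun f => ⟨f.1.1, f.1.2,
        (mul_inv_eq_iff_eq_mul.1 (congrArg Subtype.val (f.2 ⟨z, mem_zpowers z⟩))).symm⟩
      invFun := fun f => ⟨⟨f.1, f.2.1⟩, fun k => Subtype.ext (show k.1 * f.1 * k.1⁻¹ = f.1 by
        obtain ⟨n, hn⟩ := mem_zpowers_iff.1 k.2
        rw [← hn, ← (f.2.2.zpow_right n).eq, mul_inv_cancel_right])⟩
      left_inv := fun f => rfl
      right_inv := fun f => rfl }))

/-- A coset of a two-group left invariant by an element of order three contains a fixed element. -/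
theorem fix_coset {z r : G} {A : Subgroup G} (hz : orderOf z = 3)
    (hn : ∀ a ∈ A, z * a * z⁻¹ ∈ A) (hr : r⁻¹ * (z * r * z⁻¹) ∈ A) (hA : ¬ 3 ∣ Nat.card A) :
    ∃ a ∈ A, Commute (r * a) z := by
  have hS : ∀ g ∈ {g : G | r⁻¹ * g ∈ A}, z * g * z⁻¹ ∈ {g : G | r⁻¹ * g ∈ A} := by
    intro g hg
    show r⁻¹ * (z * g * z⁻¹) ∈ A
    rw [show r⁻¹ * (z * g * z⁻¹) = (r⁻¹ * (z * r * z⁻¹)) * (z * (r⁻¹ * g) * z⁻¹) by group]
    exact mul_mem hr (hn _ hg)
  have hc : Nat.card {g : G | r⁻¹ * g ∈ A} = Nat.card A :=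
    Nat.card_congr ((Equiv.mulLeft r⁻¹).subtypeEquiv fun g => Iff.rfl)
  have h := fixed_count hz hS
  rw [hc] at h
  by_contra! hno
  have h0 : Nat.card {g : G // g ∈ {g : G | r⁻¹ * g ∈ A} ∧ Commute g z} = 0 := by
    haveI : IsEmpty {g : G // g ∈ {g : G | r⁻¹ * g ∈ A} ∧ Commute g z} := ⟨fun g =>
      hno (r⁻¹ * g.1) g.2.1 (by rw [mul_inv_cancel_left]; exact g.2.2)⟩
    exact Nat.card_of_isEmpty
  rw [h0] at h
  exact hA (Nat.modEq_zero_iff_dvd.1 h)

end H78.M22R
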