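import Mathlib.GroupTheory.Sylow
import Mathlib.GroupTheory.PGroup
import Mathlib.GroupTheory.GroupAction.Quotient
import Mathlib.GroupTheory.GroupAction.ConjAct
import Mathlib.GroupTheory.Index

/-! Elementary counting tools for the recognition of M22. -/

set_option autoImplicit false

namespace H78.M22R

open Subgroup

variable {G : Type*} [Group G] [Finite G]

/-- Abbreviation for the centraliser of an element. -/
abbrev cz (x : G) : Subgroup G := centralizer ({x} : Set G)

omit [Finite G] in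
theorem mem_cz {x g : G} : g ∈ cz x ↔ Commute g x :=
  mem_centralizer_singleton_iff

omit [Finite G] in
theorem cz_inv (x : G) : cz x⁻¹ = cz x := by
  ext g
  rw [mem_cz, mem_cz, Commute.inv_right_iff]

omit [Finite G] in
theorem commute_conj_iff (c a b : G) : Commute (c * a * c⁻¹) (c * b * c⁻¹) ↔ Commute a b := by
  rw [show c * a * c⁻¹ = MulAut.conj c a from rfl, show c * b * c⁻¹ = MulAut.conj c b from rfl]
  refine ⟨fun h => (MulAut.conj c).injective ?_, fun h => h.map (MulAut.conj c)⟩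
  rw [map_mul, map_mul]
  exact h

theorem card_cz_conj (c x : G) : Nat.card (cz (c * x * c⁻¹)) = Nat.card (cz x) := by
  refine (Nat.card_congr ((MulAut.conj c).toEquiv.subtypeEquiv fun g => ?_)).symm
  simp only [mem_cz, MulEquiv.toEquiv_eq_coe, MulEquiv.coe_toEquiv, MulAut.conj_apply]
  exact (commute_conj_iff c g x).symm

omit [Finite G] in
theorem orderOf_conj' (c x : G) : orderOf (c * x * c⁻¹) = orderOf x :=
  (MulAut.conj c).orderOf_eq x

/-- A class is as large as the index of the centraliser. -/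
theorem card_class_mul (x : G) :
    Nat.card {y : G // IsConj x y} * Nat.card (cz x) = Nat.card G := by
  have h := (MulAction.stabilizer (ConjAct G) x).card_mul_index
  rw [MulAction.index_stabilizer] at h
  have h1 : Nat.card (MulAction.stabilizer (ConjAct G) x) = Nat.card (cz x) := by
    refine Nat.card_congr (ConjAct.ofConjAct.toEquiv.subtypeEquiv fun g => ?_)
    rw [MulAction.mem_stabilizer_iff, ConjAct.smul_def, mem_cz, mul_inv_eq_iff_eq_mul]
    rfl
  have h2 : (MulAction.orbit (ConjAct G) x).ncard = Nat.card {y : G // IsConj x y} := by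
    rw [← Nat.card_coe_set_eq]
    refine Nat.card_congr (Equiv.subtypeEquivRight fun y => ?_)
    rw [ConjAct.mem_orbit_conjAct, isConj_comm]
  rw [h1, h2] at h
  rw [mul_comm]
  exact h.trans (Nat.card_congr ConjAct.ofConjAct.toEquiv)

/-- Counting the fixed points of a p-group. -/
theorem exists_fixed_of_not_dvd {p : ℕ} [Fact p.Prime] {H : Subgroup G} (hH : IsPGroup p H)
    {α : Type*} [MulAction H α] [Finite α] (h : ¬ p ∣ Nat.card α) :
    ∃ a : α, ∀ k : H, k • a = a := by
  obtain ⟨a, ha⟩ := hH.nonempty_fixed_point_of_prime_not_dvd_card α h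
  exact ⟨a, ha⟩

omit [Finite G] in
theorem pow_eq_one_of {g : G} {n : ℕ} (h : orderOf g ∣ n) : g ^ n = 1 :=
  orderOf_dvd_iff_pow_eq_one.1 h

theorem exists_orderOf (p : ℕ) [Fact p.Prime] {H : Subgroup G} (h : p ∣ Nat.card H) :
    ∃ g ∈ H, orderOf g = p := by
  obtain ⟨g, hg⟩ := exists_prime_orderOf_dvd_card' p h
  exact ⟨g, g.2, by rw [Subgroup.orderOf_coe, hg]⟩

theorem isPGroup_zpowers {p : ℕ} {g : G} (hg : orderOf g = p) : IsPGroup p (zpowers g) :=
  IsPGroup.of_card (n := 1) (by rw [Nat.card_zpowers, hg, pow_one])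

omit [Finite G] in
theorem mem_zpowers_three {x w : G} (hx : orderOf x = 3) (hw : w ∈ zpowers x) :
    w = 1 ∨ w = x ∨ w = x⁻¹ := by
  obtain ⟨n, rfl⟩ := mem_zpowers_iff.1 hw
  rw [← zpow_mod_orderOf, hx]
  have h : n % (3 : ℤ) = 0 ∨ n % 3 = 1 ∨ n % 3 = 2 := by omega
  rcases h with h | h | h <;> rw [Nat.cast_ofNat, h]
  · left; exact zpow_zero x
  · right; left; exact zpow_one x
  · right; right
    have h3 : x ^ (3 : ℤ) = 1 := by
      rw [show ((3 : ℤ)) = ((3 : ℕ) : ℤ) from rfl, zpow_natCast, ← hx, pow_orderOf_eq_one]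
    rw [show (2 : ℤ) = 3 + -1 by norm_num, zpow_add, h3, one_mul, zpow_neg_one]

/-- The order of a product of two subgroups meeting trivially, one normalising the other. -/
theorem card_sup_eq {A B : Subgroup G} (h : B ≤ normalizer (A : Set G)) (hd : A ⊓ B = ⊥) :
    Nat.card (A ⊔ B : Subgroup G) = Nat.card A * Nat.card B := by
  rw [← Nat.card_prod]
  refine (Nat.card_congr (Equiv.ofBijective
    (fun p : A × B => (⟨p.1.1 * p.2.1, mul_mem (le_sup_left (b := B) p.1.2)
      (le_sup_right (a := A) p.2.2)⟩ : ↥(A ⊔ B))) ⟨?_, ?_⟩)).symm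
  · intro p q e
    have e' : (p.1.1 * p.2.1 : G) = q.1.1 * q.2.1 := congrArg Subtype.val e
    have hmem : q.1.1⁻¹ * p.1.1 ∈ A ⊓ B := by
      refine Subgroup.mem_inf.2 ⟨mul_mem (inv_mem q.1.2) p.1.2, ?_⟩
      have e2 : q.1.1⁻¹ * p.1.1 = q.2.1 * p.2.1⁻¹ := by
        rw [eq_mul_inv_iff_mul_eq, mul_assoc, inv_mul_eq_iff_eq_mul]; exact e'
      rw [e2]; exact mul_mem q.2.2 (inv_mem p.2.2)
    rw [hd, mem_bot, inv_mul_eq_one] at hmem
    rw [← hmem] at e'
    exact Prod.ext (Subtype.ext hmem.symm) (Subtype.ext (mul_left_cancel e'))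
  · intro z
    have hz : (z : G) ∈ ((A ⊔ B : Subgroup G) : Set G) := z.2
    rw [coe_mul_of_right_le_normalizer_left A B h] at hz
    obtain ⟨a, ha, b, hb, e⟩ := hz
    exact ⟨(⟨a, ha⟩, ⟨b, hb⟩), Subtype.ext e⟩

end H78.M22R
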