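import Cfsg.Agent.H78.M22R.Loc
import Cfsg.Agent.H78.M22R.Tools
import Mathlib.Combinatorics.Enumerative.DoubleCounting

/-! The local hypothesis for groups of the order of M22, and first consequences. -/

set_option autoImplicit false
set_option linter.style.haveILetI false

namespace H78.M22R

open Subgroup

variable {G : Type*} [Group G] [Finite G]

/-- The subgroup generated by the involutions commuting with `x`. -/
def four (x : G) : Subgroup G := closure {v | Commute v x ∧ v * v = 1}

namespace Loc

variable (L : Loc G)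
include L

theorem card_three : Nat.card {x : G // orderOf x = 3} = 12320 := by
  haveI : Fact (Nat.Prime 3) := ⟨Nat.prime_three⟩
  obtain ⟨x, hx⟩ := exists_prime_orderOf_dvd_card' (G := G) 3 (by rw [L.card]; norm_num)
  have h := card_class_mul x
  rw [L.cent3 x hx, L.card] at h
  have he : Nat.card {y : G // orderOf y = 3} = Nat.card {y : G // IsConj x y} := by
    refine Nat.card_congr (Equiv.subtypeEquivRight fun y => ⟨fun hy => L.conj3 x y hx hy, fun h => ?_⟩)
    obtain ⟨c, rfl⟩ := isConj_iff.1 h
    rw [orderOf_conj', hx]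
  omega

theorem card_two : Nat.card {x : G // orderOf x = 2} = 1155 := by
  haveI : Fact (Nat.Prime 2) := ⟨Nat.prime_two⟩
  obtain ⟨x, hx⟩ := exists_prime_orderOf_dvd_card' (G := G) 2 (by rw [L.card]; norm_num)
  have h := card_class_mul x
  rw [L.cent2 x hx, L.card] at h
  have he : Nat.card {y : G // orderOf y = 2} = Nat.card {y : G // IsConj x y} := by
    refine Nat.card_congr (Equiv.subtypeEquivRight fun y => ⟨fun hy => L.conj2 x y hx hy, fun h => ?_⟩)
    obtain ⟨c, rfl⟩ := isConj_iff.1 h
    rw [orderOf_conj', hx]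
  omega

/-- No subgroup of order nine lies in the centraliser of an involution. -/
theorem not_nine {t : G} (ht : orderOf t = 2) {H : Subgroup G} (hH : H ≤ cz t) :
    ¬ 9 ∣ Nat.card H := by
  intro h
  have := h.trans (card_dvd_of_le hH)
  rw [L.cent2 t ht] at this
  norm_num at this

theorem sq_of_two_power {x w : G} (hx : orderOf x = 3) (hw : Commute w x)
    (h2 : ∃ k, orderOf w = 2 ^ k) : w * w = 1 := by
  obtain ⟨k, hk⟩ := h2
  have h6 := orderOf_dvd_of_pow_eq_one (L.six x w hx hw)
  rw [hk] at h6
  have : k ≤ 1 := by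
    by_contra hc
    have h4 : 2 ^ 2 ∣ 6 := (pow_dvd_pow 2 (by omega : 2 ≤ k)).trans h6
    norm_num at h4
  rw [← pow_two]
  exact pow_eq_one_of (hk ▸ (pow_dvd_pow 2 this))

theorem exists_four_sylow {x : G} (hx : orderOf x = 3) {t : G} (ht : Commute t x) (ht2 : t * t = 1) :
    ∃ Q : Subgroup G, t ∈ Q ∧ Nat.card Q = 4 ∧ (∀ q ∈ Q, Commute q x ∧ q * q = 1) := by
  haveI : Fact (Nat.Prime 2) := ⟨Nat.prime_two⟩
  let t' : cz x := ⟨t, mem_cz.2 ht⟩
  have hp : IsPGroup 2 (zpowers t') := by
    intro g
    refine ⟨1, ?_⟩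
    obtain ⟨n, hn⟩ := mem_zpowers_iff.1 g.2
    apply Subtype.ext
    have htt : t' ^ (2 : ℤ) = 1 := Subtype.ext (by simp [t', pow_two, ht2, zpow_two])
    rw [SubmonoidClass.coe_pow, OneMemClass.coe_one, ← hn, ← zpow_natCast, ← zpow_mul, mul_comm,
      zpow_mul]
    simp [htt]
  obtain ⟨S, hS⟩ := hp.exists_le_sylow
  have hSc : Nat.card (S : Subgroup (cz x)) = 4 := by
    rw [Sylow.card_eq_multiplicity, L.cent3 x hx,
      show (36 : ℕ) = 2 ^ 2 * 9 by norm_num, Nat.factorization_mul (by norm_num) (by norm_num),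
      Nat.prime_two.factorization_pow]
    simp [Nat.factorization_eq_zero_of_not_dvd (show ¬ 2 ∣ 9 by norm_num)]
  refine ⟨(S : Subgroup (cz x)).map (cz x).subtype, ⟨t', hS (mem_zpowers t'), rfl⟩, ?_, ?_⟩
  · rw [Nat.card_congr ((S : Subgroup (cz x)).equivMapOfInjective _
      (cz x).subtype_injective).toEquiv.symm, hSc]
  · rintro q ⟨q', hq', rfl⟩
    refine ⟨mem_cz.1 q'.2, L.sq_of_two_power hx (mem_cz.1 q'.2) ?_⟩
    obtain ⟨k, hk⟩ := (IsPGroup.iff_orderOf.1 S.2) ⟨q', hq'⟩
    exact ⟨k, by rw [← hk, Subgroup.orderOf_mk]; exact Subgroup.orderOf_coe q'⟩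

/-- Each element of order three commutes with exactly three involutions. -/
theorem inv_three {x : G} (hx : orderOf x = 3) :
    Nat.card {v : G // orderOf v = 2 ∧ Commute v x} = 3 := by
  classical
  haveI := Fintype.ofFinite G
  haveI : Fact (Nat.Prime 2) := ⟨Nat.prime_two⟩
  haveI : Fact (Nat.Prime 3) := ⟨Nat.prime_three⟩
  let A : Finset G := Finset.univ.filter fun v => orderOf v = 2
  let B : Finset G := Finset.univ.filter fun v => orderOf v = 3
  have hA : A.card = 1155 := by
    rw [← L.card_two, Nat.card_eq_fintype_card, Fintype.card_subtype]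
  have hB : B.card = 12320 := by
    rw [← L.card_three, Nat.card_eq_fintype_card, Fintype.card_subtype]
  let i : G → ℕ := fun y => (A.filter fun v => Commute v y).card
  let c : G → ℕ := fun v => (B.filter fun y => Commute v y).card
  have hi : ∀ y ∈ B, i y = i x := by
    intro y hy
    obtain ⟨g, rfl⟩ := isConj_iff.1 (L.conj3 x y hx (Finset.mem_filter.1 hy).2)
    refine (Finset.card_equiv (MulAut.conj g).toEquiv fun v => ?_).symm
    simp only [A, Finset.mem_filter, Finset.mem_univ, true_and, MulEquiv.toEquiv_eq_coe,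
      MulEquiv.coe_toEquiv, MulAut.conj_apply, orderOf_conj', commute_conj_iff]
  obtain ⟨t, ht, htx⟩ : ∃ t, orderOf t = 2 ∧ Commute t x := by
    obtain ⟨t, ht, h⟩ := exists_orderOf 2 (H := cz x) (by rw [L.cent3 x hx]; norm_num)
    exact ⟨t, h, mem_cz.1 ht⟩
  have hc : ∀ v ∈ A, c v = c t := by
    intro v hv
    obtain ⟨g, rfl⟩ := isConj_iff.1 (L.conj2 t v ht (Finset.mem_filter.1 hv).2)
    refine (Finset.card_equiv (MulAut.conj g).toEquiv fun y => ?_).symm
    simp only [B, Finset.mem_filter, Finset.mem_univ, true_and, MulEquiv.toEquiv_eq_coe,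
      MulEquiv.coe_toEquiv, MulAut.conj_apply, orderOf_conj', commute_conj_iff]
  have hdc : 1155 * c t = 12320 * i x := by
    have := Finset.sum_card_bipartiteAbove_eq_sum_card_bipartiteBelow (s := A) (t := B)
      (fun v y => Commute v y)
    simp only [Finset.bipartiteAbove, Finset.bipartiteBelow] at this
    rw [Finset.sum_congr rfl hc, Finset.sum_congr rfl hi] at this
    simpa [hA, hB] using this
  -- the elements of order three in the centraliser of `t`
  have ht2 : t * t = 1 := by rw [← pow_two, ← ht]; exact pow_orderOf_eq_one t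
  obtain ⟨Q, htQ, hQ, hQc⟩ := L.exists_four_sylow hx htx ht2
  have hQt : Q ≤ cz t := fun q hq => mem_cz.2 (by
    have h2 := (hQc _ (mul_mem hq htQ)).2
    have e := mul_eq_one_iff_eq_inv.1 h2
    rw [mul_inv_rev, inv_eq_of_mul_eq_one_left ht2, inv_eq_of_mul_eq_one_left (hQc q hq).2] at e
    exact e)
  have h12 : 12 ∣ Nat.card (cz t ⊓ cz x : Subgroup G) := by
    refine Nat.Coprime.mul_dvd_of_dvd_of_dvd (show Nat.Coprime 4 3 by norm_num) ?_ ?_
    · rw [← hQ]
      exact card_dvd_of_le (le_inf hQt fun q hq => mem_cz.2 (hQc q hq).1)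
    · rw [← hx, ← Nat.card_zpowers]
      exact card_dvd_of_le (zpowers_le.2 ⟨mem_cz.2 htx.symm, mem_cz.2 (Commute.refl x)⟩)
  have hsame : ∀ y, orderOf y = 3 → Commute t y → Commute y x → y ∈ zpowers x := by
    intro y hy hty hyx
    by_contra hn
    refine L.not_nine ht (H := zpowers x ⊔ zpowers y) (sup_le
      (zpowers_le.2 (mem_cz.2 htx.symm)) (zpowers_le.2 (mem_cz.2 hty.symm))) ?_
    have hle : zpowers y ≤ cz x := zpowers_le.2 (mem_cz.2 hyx)
    have hno : zpowers y ≤ normalizer (zpowers x : Set G) := by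
      refine hle.trans ?_
      rw [show (cz x : Subgroup G) = centralizer (zpowers x : Set G) by
        rw [zpowers_eq_closure, centralizer_closure]]
      exact centralizer_le_normalizer _
    have hdisj : zpowers x ⊓ zpowers y = ⊥ := by
      refine (eq_bot_iff_forall _).2 fun w ⟨h1, h2⟩ => ?_
      rcases mem_zpowers_three hx h1 with h | h | h
      · exact h
      all_goals
        rcases mem_zpowers_three hy h2 with h' | h' | h'
        · exact h'
        all_goals
          exfalso; apply hn
          first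
            | (rw [← h', h]; exact mem_zpowers x)
            | (rw [← h', h]; exact inv_mem (mem_zpowers x))
            | (rw [← inv_inv y, ← h', h]; exact inv_mem (mem_zpowers x))
            | (rw [← inv_inv y, ← h', h, inv_inv]; exact mem_zpowers x)
    rw [card_sup_eq hno hdisj, Nat.card_zpowers, Nat.card_zpowers, hx, hy]
  have hct_le : c t ≤ 64 := by
    have hsub : B.filter (fun y => Commute t y) ⊆
        (Finset.univ.filter fun g : G => g ∈ cz t).image (fun g => g * x * g⁻¹) ∪
        (Finset.univ.filter fun g : G => g ∈ cz t).image (fun g => g * x⁻¹ * g⁻¹) := by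
      intro y hy
      simp only [B, Finset.mem_filter, Finset.mem_univ, true_and] at hy
      obtain ⟨hy, hty⟩ := hy
      let x' : cz t := ⟨x, mem_cz.2 htx.symm⟩
      let y' : cz t := ⟨y, mem_cz.2 hty.symm⟩
      have hf : (Nat.card (cz t)).factorization 3 = 1 := by
        rw [L.cent2 t ht, show (384 : ℕ) = 3 ^ 1 * 128 by norm_num,
          Nat.factorization_mul (by norm_num) (by norm_num), Nat.prime_three.factorization_pow]
        simp [Nat.factorization_eq_zero_of_not_dvd (show ¬ 3 ∣ 128 by norm_num)]
      have hox : orderOf x' = 3 := by rw [Subgroup.orderOf_mk, hx]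
      have hoy : orderOf y' = 3 := by rw [Subgroup.orderOf_mk, hy]
      let SX : Sylow 3 (cz t) := Sylow.ofCard (zpowers x') (by rw [Nat.card_zpowers, hox, hf, pow_one])
      let SY : Sylow 3 (cz t) := Sylow.ofCard (zpowers y') (by rw [Nat.card_zpowers, hoy, hf, pow_one])
      obtain ⟨g, hg⟩ := MulAction.exists_smul_eq (cz t) SX SY
      have h1 : g * x' * g⁻¹ ∈ ((g • SX : Sylow 3 (cz t)) : Subgroup (cz t)) := by
        rw [Sylow.coe_subgroup_smul]
        exact ⟨x', mem_zpowers x', by simp⟩
      rw [hg] at h1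
      have hne : g * x' * g⁻¹ ≠ 1 := fun e => by
        rw [conj_eq_one_iff] at e; rw [e, orderOf_one] at hox; omega
      rw [Finset.mem_union, Finset.mem_image, Finset.mem_image]
      rcases mem_zpowers_three hoy h1 with e | e | e
      · exact absurd e hne
      · exact Or.inl ⟨g, by simp [g.2], congrArg Subtype.val e⟩
      · refine Or.inr ⟨g, by simp [g.2], ?_⟩
        have := congrArg (fun u : cz t => ((u⁻¹ : cz t) : G)) e
        simpa [x', y', mul_assoc] using this
    refine (Finset.card_le_card hsub).trans ((Finset.card_union_le _ _).trans ?_)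
    have hb : ∀ y : G, (∀ {k : G}, Commute k x → Commute k y) →
        ((Finset.univ.filter fun g : G => g ∈ cz t).image (fun g => g * y * g⁻¹)).card ≤ 32 := by
      intro y hy
      have key : ∀ z ∈ (Finset.univ.filter fun g : G => g ∈ cz t).image (fun g => g * y * g⁻¹),
          12 ≤ ((Finset.univ.filter fun g : G => g ∈ cz t).filter fun g => g * y * g⁻¹ = z).card := by
        intro z hz
        obtain ⟨g, hg, rfl⟩ := Finset.mem_image.1 hz
        rw [Finset.mem_filter] at hg
        have e12 : 12 ≤ Nat.card (cz t ⊓ cz x : Subgroup G) := Nat.le_of_dvd Nat.card_pos h12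
        refine e12.trans ?_
        rw [Nat.card_eq_fintype_card, ← Finset.card_univ]
        refine Finset.card_le_card_of_injOn (fun k => g * k.1) (fun k _ => ?_) ?_
        · simp only [Finset.coe_filter, Finset.mem_filter, Finset.mem_univ, true_and, Set.mem_setOf_eq]
          refine ⟨mul_mem hg.2 k.2.1, ?_⟩
          have hk : Commute k.1 y := hy (mem_cz.1 k.2.2)
          calc g * k.1 * y * (g * k.1)⁻¹ = g * (k.1 * y) * k.1⁻¹ * g⁻¹ := by group
            _ = g * (y * k.1) * k.1⁻¹ * g⁻¹ := by rw [hk.eq]
            _ = g * y * g⁻¹ := by group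
        · intro a _ b _ e
          exact Subtype.ext (mul_left_cancel e)
      have h384 : (Finset.univ.filter fun g : G => g ∈ cz t).card = 384 := by
        rw [← L.cent2 t ht, Nat.card_eq_fintype_card, Fintype.card_subtype]
      have := Finset.mul_card_image_le_card (Finset.univ.filter fun g : G => g ∈ cz t)
        (f := fun g => g * y * g⁻¹) 12 key
      omega
    have hb1 := hb x (fun h => h)
    have hb2 := hb x⁻¹ (fun h => h.inv_right)
    omega
  have hmod : c t % 3 = 2 := by
    let S := {y : G // orderOf y = 3 ∧ Commute t y}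
    have hS : Nat.card S = c t := by
      rw [Nat.card_eq_fintype_card, Fintype.card_subtype]
      simp only [c, B, Finset.filter_filter]
    let act : MulAction (zpowers x) S :=
      { smul := fun k y => ⟨k.1 * y.1 * k.1⁻¹, by rw [orderOf_conj']; exact y.2.1, by
          have hk : Commute t k.1 := by
            obtain ⟨n, hn⟩ := mem_zpowers_iff.1 k.2
            rw [← hn]; exact htx.zpow_right n
          exact (hk.mul_right y.2.2).mul_right hk.inv_right⟩
        one_smul := fun y => Subtype.ext (show (1 : G) * y.1 * (1 : G)⁻¹ = y.1 by group)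
        mul_smul := fun k l y => Subtype.ext
          (show (k.1 * l.1) * y.1 * (k.1 * l.1)⁻¹ = k.1 * (l.1 * y.1 * l.1⁻¹) * k.1⁻¹ by group) }
    have hm := (isPGroup_zpowers hx).card_modEq_card_fixedPoints (α := S)
    have hfix : Nat.card (MulAction.fixedPoints (zpowers x) S) = 2 := by
      have hinv : x⁻¹ ≠ x := fun e => by
        have : x ^ 2 = 1 := by rw [pow_two]; nth_rw 2 [← e]; exact mul_inv_cancel x
        have := orderOf_dvd_of_pow_eq_one this
        rw [hx] at this; norm_num at this
      rw [Nat.card_eq_two_iff]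
      refine ⟨⟨⟨x, hx, htx⟩, fun k => ?_⟩, ⟨⟨x⁻¹, by rw [orderOf_inv, hx], htx.inv_right⟩, fun k => ?_⟩,
        fun e => hinv (congrArg (fun u => u.1.1) e).symm, ?_⟩
      · obtain ⟨k, hk⟩ := k
        obtain ⟨n, rfl⟩ := mem_zpowers_iff.1 hk
        exact Subtype.ext (show x ^ n * x * (x ^ n)⁻¹ = x by group)
      · obtain ⟨k, hk⟩ := k
        obtain ⟨n, rfl⟩ := mem_zpowers_iff.1 hk
        exact Subtype.ext (show x ^ n * x⁻¹ * (x ^ n)⁻¹ = x⁻¹ by group)
      · rw [Set.eq_univ_iff_forall]
        rintro ⟨⟨y, hy, hty⟩, hf⟩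
        have e := congrArg Subtype.val (hf ⟨x, mem_zpowers x⟩)
        have hyx : Commute y x := (mul_inv_eq_iff_eq_mul.1 e).symm
        rcases mem_zpowers_three hx (hsame y hy hty hyx) with e' | e' | e'
        · rw [e', orderOf_one] at hy; omega
        · left; exact Subtype.ext (Subtype.ext e')
        · right; exact Subtype.ext (Subtype.ext e')
    rw [hfix, hS] at hm
    exact hm
  have hix : i x = 3 := by omega
  rw [Nat.card_eq_fintype_card, Fintype.card_subtype, ← hix]
  simp only [i, A, Finset.filter_filter]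

theorem four_spec {x : G} (hx : orderOf x = 3) :
    Nat.card (four x) = 4 ∧ ∀ v, v ∈ four x ↔ Commute v x ∧ v * v = 1 := by
  classical
  haveI := Fintype.ofFinite G
  haveI : Fact (Nat.Prime 2) := ⟨Nat.prime_two⟩
  obtain ⟨t, ht, hto⟩ := exists_orderOf 2 (H := cz x) (by rw [L.cent3 x hx]; norm_num)
  obtain ⟨Q, -, hQ, hQc⟩ := L.exists_four_sylow hx (mem_cz.1 ht)
    (by rw [← pow_two, ← hto]; exact pow_orderOf_eq_one t)
  have hset : ∀ v, Commute v x ∧ v * v = 1 → v ∈ Q := by
    intro v hv
    by_contra hn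
    have hv2 : orderOf v = 2 := orderOf_eq_prime (by rw [pow_two]; exact hv.2)
      fun e => hn (e ▸ one_mem Q)
    have h3 := L.inv_three hx
    rw [Nat.card_eq_fintype_card, Fintype.card_subtype] at h3
    have hsub : insert v ((Finset.univ.filter fun q : G => q ∈ Q).erase 1) ⊆
        Finset.univ.filter fun w => orderOf w = 2 ∧ Commute w x := by
      intro w hw
      rw [Finset.mem_insert, Finset.mem_erase, Finset.mem_filter] at hw
      rw [Finset.mem_filter]
      rcases hw with rfl | ⟨hw1, -, hw⟩
      · exact ⟨Finset.mem_univ _, hv2, hv.1⟩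
      · exact ⟨Finset.mem_univ _, orderOf_eq_prime (by rw [pow_two]; exact (hQc w hw).2) hw1,
          (hQc w hw).1⟩
    have h := Finset.card_le_card hsub
    rw [Finset.card_insert_of_notMem (by simp [hn]), Finset.card_erase_of_mem (by simp [one_mem]),
      h3, ← Fintype.card_subtype, ← Nat.card_eq_fintype_card, hQ] at h
    omega
  have e : four x = Q := le_antisymm ((closure_le _).2 fun v hv => hset v hv)
    fun q hq => subset_closure (hQc q hq)
  exact ⟨by rw [e]; exact hQ, fun v => by rw [e]; exact ⟨hQc v, hset v⟩⟩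

theorem mem_four {x v : G} (hx : orderOf x = 3) : v ∈ four x ↔ Commute v x ∧ v * v = 1 :=
  (L.four_spec hx).2 v

theorem card_four {x : G} (hx : orderOf x = 3) : Nat.card (four x) = 4 := (L.four_spec hx).1

end Loc

end H78.M22R
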