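import Cfsg.Agent.H78.M22R.Pair
import Cfsg.Agent.H78.M22R.Fix
import Mathlib.GroupTheory.IndexNormal
import Mathlib.Data.Finite.Perm

/-! The two-core of the centraliser of an involution. -/

set_option autoImplicit false
set_option linter.style.haveILetI false

namespace H78.M22R

open Subgroup

variable {G : Type*} [Group G] [Finite G]

/-- A Sylow three-subgroup, a distinguished line, an involution in its four-group, an inverter. -/
structure Frame (G : Type*) [Group G] where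
  P : Subgroup G
  x : G
  y : G
  t : G
  τ : G
  card_P : Nat.card P = 9
  x_mem : x ∈ P
  x_ne : x ≠ 1
  y_mem : y ∈ P
  y_not : y ∉ zpowers x
  t_mem : t ∈ four x
  t_ne : t ≠ 1
  τ_inv : ∀ p ∈ P, τ * p * τ⁻¹ = p⁻¹
  τ_t : τ * t * τ⁻¹ = t

/-- A subgroup of order 64 normal in the centraliser of the involution. -/
structure Frame.IsCore (F : Frame G) (R : Subgroup G) : Prop where
  le : R ≤ cz F.t
  card : Nat.card R = 64
  norm : ∀ c ∈ cz F.t, ∀ r ∈ R, c * r * c⁻¹ ∈ R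

namespace Frame

variable (F : Frame G) (L : Loc G)
include L

theorem hx : orderOf F.x = 3 := L.order_three F.card_P F.x_mem F.x_ne

theorem tx : Commute F.t F.x := ((L.mem_four (F.hx L)).1 F.t_mem).1

theorem t_sq : F.t * F.t = 1 := ((L.mem_four (F.hx L)).1 F.t_mem).2

theorem t_order : orderOf F.t = 2 := by
  haveI : Fact (Nat.Prime 2) := ⟨Nat.prime_two⟩
  exact orderOf_eq_prime (by rw [pow_two, F.t_sq L]) F.t_ne

theorem cardC : Nat.card (cz F.t) = 384 := L.cent2 _ (F.t_order L)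

theorem x_memC : F.x ∈ cz F.t := mem_cz.2 (F.tx L).symm

theorem τ_memC : F.τ ∈ cz F.t := mem_cz.2 (mul_inv_eq_iff_eq_mul.1 F.τ_t)

theorem τ_sq : F.τ * F.τ = 1 := L.inverter_sq F.card_P F.τ_inv

theorem four_le : four F.x ≤ cz F.t := fun _ hv =>
  mem_cz.2 (L.four_commute (F.hx L) hv F.t_mem)

/-- No subgroup of index three in the centraliser is normal. -/
theorem no128 {M : Subgroup G} (hle : M ≤ cz F.t) (hc : Nat.card M = 128)
    (hn : ∀ c ∈ cz F.t, ∀ m ∈ M, c * m * c⁻¹ ∈ M) : False := by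
  haveI : (M.subgroupOf (cz F.t)).Normal :=
    ⟨fun m hm c => hn c.1 c.2 m.1 (mem_subgroupOf.1 hm)⟩
  have hi : (M.subgroupOf (cz F.t)).index = 3 := by
    have h := (M.subgroupOf (cz F.t)).card_mul_index
    rw [Nat.card_congr (subgroupOfEquivOfLe hle).toEquiv, hc, F.cardC L] at h
    omega
  have hτ : F.τ ∈ M := by
    have h := mem_subgroupOf.1
      (pow_index_mem (M.subgroupOf (cz F.t)) (⟨F.τ, F.τ_memC L⟩ : cz F.t))
    rw [hi, SubmonoidClass.coe_pow, pow_succ, pow_two, F.τ_sq L, one_mul] at h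
    exact h
  have h2 : F.x * F.x ∈ M := by
    have e : F.x * F.x = F.x * F.τ * F.x⁻¹ * F.τ⁻¹ := by
      calc F.x * F.x = F.x * (F.τ * F.x⁻¹ * F.τ⁻¹) := by
            rw [F.τ_inv _ (inv_mem F.x_mem), inv_inv]
        _ = F.x * F.τ * F.x⁻¹ * F.τ⁻¹ := by group
    rw [e]
    exact mul_mem (hn _ (F.x_memC L) _ hτ) (inv_mem hτ)
  have h := Subgroup.orderOf_dvd_natCard M h2
  rw [← pow_two, orderOf_pow' _ (by norm_num), F.hx L, hc] at h
  norm_num at h

theorem exists_core : ∃ R, F.IsCore R := by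
  haveI : Fact (Nat.Prime 2) := ⟨Nat.prime_two⟩
  obtain ⟨S⟩ : Nonempty (Sylow 2 (cz F.t)) := inferInstance
  have hS : Nat.card (S : Subgroup (cz F.t)) = 128 := by
    rw [Sylow.card_eq_multiplicity, F.cardC L, show (384 : ℕ) = 2 ^ 7 * 3 by norm_num,
      Nat.factorization_mul (by norm_num) (by norm_num), Nat.prime_two.factorization_pow]
    simp [Nat.factorization_eq_zero_of_not_dvd (show ¬ 2 ∣ 3 by norm_num)]
  set N := (S : Subgroup (cz F.t)).normalCore with hN
  have hq : Nat.card (cz F.t ⧸ (S : Subgroup (cz F.t))) = 3 := by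
    have h := (S : Subgroup (cz F.t)).card_mul_index
    rw [hS, F.cardC L] at h
    rw [← index_eq_card]; omega
  have hi : N.index ∣ 6 := by
    rw [hN, normalCore_eq_ker, index_ker]
    refine (card_subgroup_dvd_card _).trans ?_
    rw [Nat.card_perm, hq]; rfl
  have hd : Nat.card N ∣ 2 ^ 7 := by
    have h := card_dvd_of_le (normalCore_le (S : Subgroup (cz F.t)))
    rwa [hS] at h
  obtain ⟨k, hk, hk'⟩ := (Nat.dvd_prime_pow Nat.prime_two).1 hd
  have hmul := N.card_mul_index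
  rw [F.cardC L, hk'] at hmul
  have h64 : 64 ≤ Nat.card N := by
    have := Nat.le_of_dvd (by norm_num) hi
    rw [hk']
    nlinarith
  let R := N.map (cz F.t).subtype
  have hR : Nat.card R = Nat.card N :=
    (Nat.card_congr (N.equivMapOfInjective _ (cz F.t).subtype_injective).toEquiv).symm
  have hle : R ≤ cz F.t := by rintro _ ⟨r, -, rfl⟩; exact r.2
  have hnorm : ∀ c ∈ cz F.t, ∀ r ∈ R, c * r * c⁻¹ ∈ R := by
    rintro c hc _ ⟨r, hr, rfl⟩
    exact ⟨(⟨c, hc⟩ : cz F.t) * r * (⟨c, hc⟩ : cz F.t)⁻¹,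
      Subgroup.Normal.conj_mem inferInstance r hr _, rfl⟩
  refine ⟨R, hle, ?_, hnorm⟩
  rcases (by interval_cases k <;> simp_all : k = 6 ∨ k = 7) with rfl | rfl
  · rw [hR, hk']; rfl
  · exact (F.no128 L hle (by rw [hR, hk']; rfl) hnorm).elim

variable {R : Subgroup G} (hR : F.IsCore R)
include hR

theorem x_not : F.x ∉ R := by
  intro h
  have := Subgroup.orderOf_dvd_natCard R h
  rw [F.hx L, hR.card] at this
  norm_num at this

theorem core_pow {g : G} (hg : g ∈ R) : g ^ (2 ^ 6) = 1 := by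
  apply pow_eq_one_of
  have := Subgroup.orderOf_dvd_natCard R hg
  rwa [hR.card] at this

theorem x_norm {r : G} (hr : r ∈ R) : F.x * r * F.x⁻¹ ∈ R := hR.norm _ (F.x_memC L) r hr

/-- Elements of the centraliser commuting with `x` modulo the core. -/
theorem mem_of_comm {g : G} (hg : g ∈ cz F.t) (hc : g * F.x * g⁻¹ * F.x⁻¹ ∈ R) :
    (∃ r ∈ R, ∃ w ∈ zpowers F.x, g = r * w) ∧ ((∃ k, g ^ (2 ^ k) = 1) → g ∈ R) := by
  haveI : Fact (Nat.Prime 3) := ⟨Nat.prime_three⟩
  haveI hn : (R.subgroupOf (cz F.t)).Normal :=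
    ⟨fun m hm c => hR.norm c.1 c.2 m.1 (mem_subgroupOf.1 hm)⟩
  let φ := QuotientGroup.mk' (R.subgroupOf (cz F.t))
  have h0 : ∀ {a : cz F.t}, φ a = 1 ↔ (a : G) ∈ R := fun {a} =>
    (QuotientGroup.eq_one_iff a).trans mem_subgroupOf
  let X : cz F.t := ⟨F.x, F.x_memC L⟩
  let Tt : cz F.t := ⟨F.τ, F.τ_memC L⟩
  have hX3 : φ X ^ 3 = 1 := by
    rw [← map_pow, show X ^ 3 = 1 from Subtype.ext (L.cube F.card_P F.x_mem), map_one]
  have hXo : orderOf (φ X) = 3 := orderOf_eq_prime hX3 fun e => F.x_not L hR (h0.1 e)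
  have hQ : Nat.card (cz F.t ⧸ R.subgroupOf (cz F.t)) = 6 := by
    have h := (R.subgroupOf (cz F.t)).card_mul_index
    rw [Nat.card_congr (subgroupOfEquivOfLe hR.le).toEquiv, hR.card, F.cardC L] at h
    rw [← index_eq_card]; omega
  have hcen : cz (φ X) = zpowers (φ X) := by
    symm
    refine eq_of_le_of_card_ge (zpowers_le.2 (mem_cz.2 (Commute.refl _))) ?_
    rw [Nat.card_zpowers, hXo]
    by_contra hlt
    have h6 := card_subgroup_dvd_card (cz (φ X))
    rw [hQ] at h6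
    have heq : Nat.card (cz (φ X)) = 6 := by
      have := Nat.le_of_dvd (by norm_num) h6
      interval_cases h : Nat.card (cz (φ X)) <;> omega
    have htop : φ Tt ∈ cz (φ X) := by
      rw [Subgroup.eq_top_of_card_eq (cz (φ X)) (by rw [heq, hQ])]; exact mem_top _
    have e : Tt * X * Tt⁻¹ = X⁻¹ := Subtype.ext (F.τ_inv _ F.x_mem)
    have e2 := congrArg φ e
    rw [map_mul, map_mul, map_inv, map_inv, (mem_cz.1 htop).eq, mul_inv_cancel_right] at e2
    have : φ X ^ 2 = 1 := by rw [pow_two]; nth_rw 2 [e2]; exact mul_inv_cancel _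
    have := orderOf_dvd_of_pow_eq_one this
    rw [hXo] at this; norm_num at this
  let g' : cz F.t := ⟨g, hg⟩
  have hg' : φ g' ∈ zpowers (φ X) := by
    rw [← hcen, mem_cz]
    have : φ (g' * X * g'⁻¹ * X⁻¹) = 1 := h0.2 hc
    rw [map_mul, map_mul, map_mul, map_inv, map_inv, mul_inv_eq_one, mul_inv_eq_iff_eq_mul] at this
    exact this
  obtain ⟨n, hn'⟩ := mem_zpowers_iff.1 hg'
  refine ⟨⟨g * (F.x ^ n)⁻¹, ?_, F.x ^ n, zpow_mem (mem_zpowers _) n, by group⟩, ?_⟩
  · have h1 : φ (g' * (X ^ n)⁻¹) = 1 := by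
      rw [map_mul, map_inv, map_zpow, hn', mul_inv_cancel]
    have := h0.1 h1
    simpa [g', X] using this
  · rintro ⟨k, hk⟩
    refine h0.1 (show φ g' = 1 from ?_)
    by_contra hne
    have ho : orderOf (φ g') ∣ 2 ^ k := orderOf_dvd_of_pow_eq_one (by
      rw [← map_pow, show g' ^ 2 ^ k = 1 from Subtype.ext hk, map_one])
    have h3 : orderOf (φ g') ∣ 3 := by
      have := Subgroup.orderOf_dvd_natCard _ hg'
      rwa [Nat.card_zpowers, hXo] at this
    rcases (Nat.dvd_prime Nat.prime_three).1 h3 with h | h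
    · exact hne (orderOf_eq_one_iff.1 h)
    · rw [h] at ho
      exact absurd (Nat.prime_three.dvd_of_dvd_pow ho) (by norm_num)

/-- The inverter maps onto an element outside the normal subgroup of index two. -/
theorem cases_τ {g : G} (hg : g ∈ cz F.t) :
    g * F.x * g⁻¹ * F.x⁻¹ ∈ R ∨ (g * F.τ) * F.x * (g * F.τ)⁻¹ * F.x⁻¹ ∈ R := by
  haveI : Fact (Nat.Prime 3) := ⟨Nat.prime_three⟩
  haveI hn : (R.subgroupOf (cz F.t)).Normal :=
    ⟨fun m hm c => hR.norm c.1 c.2 m.1 (mem_subgroupOf.1 hm)⟩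
  let φ := QuotientGroup.mk' (R.subgroupOf (cz F.t))
  have h0 : ∀ {a : cz F.t}, φ a = 1 ↔ (a : G) ∈ R := fun {a} =>
    (QuotientGroup.eq_one_iff a).trans mem_subgroupOf
  let X : cz F.t := ⟨F.x, F.x_memC L⟩
  let g' : cz F.t := ⟨g, hg⟩
  let Tt : cz F.t := ⟨F.τ, F.τ_memC L⟩
  have hQ : Nat.card (cz F.t ⧸ R.subgroupOf (cz F.t)) = 6 := by
    have h := (R.subgroupOf (cz F.t)).card_mul_index
    rw [Nat.card_congr (subgroupOfEquivOfLe hR.le).toEquiv, hR.card, F.cardC L] at h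
    rw [← index_eq_card]; omega
  have hXo : orderOf (φ X) = 3 := orderOf_eq_prime
    (by rw [← map_pow, show X ^ 3 = 1 from Subtype.ext (L.cube F.card_P F.x_mem), map_one])
    fun e => F.x_not L hR (h0.1 e)
  have hidx : (zpowers (φ X)).index = 2 := by
    have h := (zpowers (φ X)).card_mul_index
    rw [Nat.card_zpowers, hXo, hQ] at h; omega
  haveI : (zpowers (φ X)).Normal := normal_of_index_eq_two hidx
  have hmem : φ g' * φ X * (φ g')⁻¹ ∈ zpowers (φ X) :=
    Normal.conj_mem inferInstance _ (mem_zpowers _) _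
  rcases mem_zpowers_three hXo hmem with e | e | e
  · rw [conj_eq_one_iff] at e
    exact absurd (h0.1 e) (F.x_not L hR)
  · left
    refine (h0 (a := g' * X * g'⁻¹ * X⁻¹)).1 ?_
    rw [map_mul, map_mul, map_mul, map_inv, map_inv, e, mul_inv_cancel]
  · right
    refine (h0 (a := (g' * Tt) * X * (g' * Tt)⁻¹ * X⁻¹)).1 ?_
    have e' : (g' * Tt) * X * (g' * Tt)⁻¹ = (g' * X * g'⁻¹)⁻¹ := Subtype.ext (by
      calc g * F.τ * F.x * (g * F.τ)⁻¹ = g * (F.τ * F.x * F.τ⁻¹) * g⁻¹ := by group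
        _ = (g * F.x * g⁻¹)⁻¹ := by rw [F.τ_inv _ F.x_mem]; group)
    rw [e', map_mul, map_inv, map_mul, map_mul, map_inv, e, inv_inv, map_inv, mul_inv_cancel]

theorem two_fix_mem {g : G} (hg : g ∈ cz F.t) (hc : Commute g F.x) (h2 : ∃ k, g ^ (2 ^ k) = 1) :
    g ∈ R :=
  (F.mem_of_comm L hR hg (by rw [hc.eq, mul_inv_cancel_right, mul_inv_cancel]; exact one_mem R)).2 h2

theorem four_le_core : four F.x ≤ R := fun v hv =>
  F.two_fix_mem L hR (F.four_le L hv) ((L.mem_four (F.hx L)).1 hv).1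
    ⟨1, by rw [pow_one, pow_two]; exact ((L.mem_four (F.hx L)).1 hv).2⟩

theorem fix_mem_four {g : G} (hg : g ∈ R) (hc : Commute g F.x) : g ∈ four F.x := by
  obtain ⟨k, -, hk⟩ := (Nat.dvd_prime_pow Nat.prime_two).1
    (orderOf_dvd_of_pow_eq_one (F.core_pow L hR hg))
  exact (L.mem_four (F.hx L)).2 ⟨hc, L.sq_of_two_power (F.hx L) hc ⟨k, hk⟩⟩

end Frame

end H78.M22R
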