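import Cfsg.Agent.H78.M22R.Loc
import Cfsg.Agent.H78.M22R.Fix
import Cfsg.Agent.H27.SolCount
import Mathlib.GroupTheory.OrderOfElement
import Mathlib.Data.ZMod.Basic

/-! Counting elements of given order. -/

set_option autoImplicit false
set_option linter.style.haveILetI false

namespace H78.M22R

open Subgroup

variable {G : Type*} [Group G] [Finite G]

/-- The number of elements of a given order. -/
noncomputable def cnt (G : Type*) [Group G] (n : ℕ) : ℕ := Nat.card {g : G // orderOf g = n}

theorem cnt_one : cnt G 1 = 1 := by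
  rw [cnt, Nat.card_eq_one_iff_exists]
  exact ⟨⟨1, orderOf_one⟩, fun g => Subtype.ext (orderOf_eq_one_iff.1 g.2)⟩

theorem cnt_zero : cnt G 0 = 0 := by
  haveI : IsEmpty {g : G // orderOf g = 0} := ⟨fun g => (orderOf_pos g.1).ne' g.2⟩
  exact Nat.card_of_isEmpty

/-- More than two: elements of a given order come in pairs. -/
theorem even_cnt {n : ℕ} (hn : 2 < n) : Even (cnt G n) := by
  classical
  haveI := Fintype.ofFinite G
  rw [cnt, Nat.card_eq_fintype_card, Fintype.card_subtype, ← ZMod.natCast_eq_zero_iff_even,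
    Finset.cast_card]
  refine Finset.sum_involution (fun g _ => g⁻¹) (fun g _ => by decide) (fun g hg _ e => ?_)
    (fun g hg => ?_) (fun g _ => inv_inv g)
  · rw [Finset.mem_filter] at hg
    have h2 : g ^ 2 = 1 := by rw [pow_two]; nth_rw 2 [← e]; exact mul_inv_cancel g
    have := Nat.le_of_dvd (by norm_num) (orderOf_dvd_of_pow_eq_one h2)
    omega
  · rw [Finset.mem_filter] at hg ⊢
    exact ⟨Finset.mem_univ _, by rw [orderOf_inv]; exact hg.2⟩

theorem cnt_pos {n : ℕ} : 0 < cnt G n ↔ ∃ g : G, orderOf g = n := by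
  constructor
  · intro h
    obtain ⟨⟨g, hg⟩⟩ := (Nat.card_pos_iff.1 h).1
    exact ⟨g, hg⟩
  · rintro ⟨g, hg⟩
    haveI : Nonempty {g : G // orderOf g = n} := ⟨⟨g, hg⟩⟩
    exact Nat.card_pos

theorem cnt_pos_of_dvd {n d : ℕ} (h : 0 < cnt G n) (hd : d ∣ n) : 0 < cnt G d := by
  obtain ⟨g, hg⟩ := cnt_pos.1 h
  have hn : 0 < n := hg ▸ orderOf_pos g
  have hd0 : 0 < d := Nat.pos_of_dvd_of_pos hd hn
  refine cnt_pos.2 ⟨g ^ (n / d), ?_⟩
  rw [orderOf_pow' g (Nat.div_pos (Nat.le_of_dvd hn hd) hd0).ne', hg,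
    Nat.gcd_eq_right (Nat.div_dvd_of_dvd hd), Nat.div_div_self hd hn.ne']

theorem sum_cnt_le (T : Finset ℕ) : ∑ n ∈ T, cnt G n ≤ Nat.card G := by
  classical
  haveI := Fintype.ofFinite G
  simp only [cnt, Nat.card_eq_fintype_card, Fintype.card_subtype]
  rw [← Finset.card_biUnion (fun a _ b _ hab => Finset.disjoint_left.2 fun g ha hb =>
    hab ((Finset.mem_filter.1 ha).2.symm.trans (Finset.mem_filter.1 hb).2))]
  exact Finset.card_le_univ _

theorem cnt_eq_zero_of_sum {T : Finset ℕ} (h : ∑ n ∈ T, cnt G n = Nat.card G) {n : ℕ}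
    (hn : n ∉ T) : cnt G n = 0 := by
  classical
  have h' := sum_cnt_le (G := G) (insert n T)
  rw [Finset.sum_insert hn, h] at h'
  omega

/-- The number of solutions of `g ^ m = 1` inside a set of orders covering all that occur. -/
theorem card_roots_eq {T : Finset ℕ} (hT : ∀ g : G, orderOf g ∈ T) (m : ℕ) :
    Nat.card {g : G // g ^ m = 1} = ∑ n ∈ T.filter (· ∣ m), cnt G n := by
  classical
  haveI := Fintype.ofFinite G
  simp only [cnt, Nat.card_eq_fintype_card, Fintype.card_subtype]
  rw [← Finset.card_biUnion (fun a _ b _ hab => Finset.disjoint_left.2 fun g ha hb =>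
    hab ((Finset.mem_filter.1 ha).2.symm.trans (Finset.mem_filter.1 hb).2))]
  congr 1
  ext g
  simp only [Finset.mem_filter, Finset.mem_univ, true_and, Finset.mem_biUnion]
  exact ⟨fun h => ⟨_, ⟨hT g, orderOf_dvd_of_pow_eq_one h⟩, rfl⟩,
    fun ⟨n, ⟨_, hn⟩, e⟩ => orderOf_dvd_iff_pow_eq_one.1 (e ▸ hn)⟩

/-- The elements of order `p` are congruent in number to those of an abelian Sylow subgroup. -/
theorem cnt_modEq {p : ℕ} [hp : Fact p.Prime] (P : Sylow p G)
    (hab : ∀ a ∈ (P : Subgroup G), ∀ b ∈ (P : Subgroup G), Commute a b) :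
    cnt G p ≡ Nat.card {g : G // g ∈ (P : Subgroup G) ∧ orderOf g = p} [MOD p] := by
  let act : MulAction P {g : G // orderOf g = p} :=
    { smul := fun k g => ⟨k.1 * g.1 * k.1⁻¹, by rw [orderOf_conj']; exact g.2⟩
      one_smul := fun g => Subtype.ext (show (1 : G) * g.1 * (1 : G)⁻¹ = g.1 by group)
      mul_smul := fun k l g => Subtype.ext
        (show (k.1 * l.1) * g.1 * (k.1 * l.1)⁻¹ = k.1 * (l.1 * g.1 * l.1⁻¹) * k.1⁻¹ by group) }
  have h := P.2.card_modEq_card_fixedPoints (α := {g : G // orderOf g = p})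
  refine h.trans (congrArg (· % p) (Nat.card_congr ?_))
  exact
    { toFun := fun f => ⟨f.1.1, by
        refine ⟨?_, f.1.2⟩
        have hc : f.1.1 ∈ centralizer ((P : Subgroup G) : Set G) := mem_centralizer_iff.2 fun k hk =>
          mul_inv_eq_iff_eq_mul.1 (congrArg Subtype.val (f.2 ⟨k, hk⟩))
        have hle : ((P : Subgroup G) ⊔ zpowers f.1.1 : Subgroup G) = P := P.3
          (IsPGroup.to_sup_of_normal_left' P.2 (isPGroup_zpowers f.1.2)
            (zpowers_le.2 (centralizer_le_normalizer _ hc))) le_sup_left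
        exact hle.le (le_sup_right (a := (P : Subgroup G)) (mem_zpowers _))⟩
      invFun := fun f => ⟨⟨f.1, f.2.2⟩, fun k => Subtype.ext
        (show k.1 * f.1 * k.1⁻¹ = f.1 by rw [(hab _ k.2 _ f.2.1).eq, mul_inv_cancel_right])⟩
      left_inv := fun f => rfl
      right_inv := fun f => rfl }

/-- A prime-order Sylow subgroup: the centraliser has no other prime, else a product order
    would occur too often. -/
theorem centralizer_eq_prime {p : ℕ} [hp : Fact p.Prime] (hf : (Nat.card G).factorization p = 1)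
    (hbig : ∀ q : ℕ, q.Prime → q ≠ p → cnt G (p * q) < cnt G p) {z : G} (hz : orderOf z = p) :
    Nat.card (centralizer ({z} : Set G)) = p := by
  classical
  have hpd : p ∣ Nat.card (centralizer ({z} : Set G)) := by
    rw [← hz]
    exact Subgroup.orderOf_dvd_natCard _ (mem_centralizer_singleton_iff.2 rfl)
  have hcong : ∀ z' : G, orderOf z' = p →
      Nat.card (centralizer ({z'} : Set G)) = Nat.card (centralizer ({z} : Set G)) := by
    intro z' hz'
    have hs : ∀ a : G, orderOf a = p → ∃ S : Sylow p G, (S : Subgroup G) = zpowers a := fun a ha =>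
      ⟨Sylow.ofCard (zpowers a) (by rw [Nat.card_zpowers, ha, hf, pow_one]), rfl⟩
    obtain ⟨S, hS⟩ := hs z hz
    obtain ⟨S', hS'⟩ := hs z' hz'
    obtain ⟨g, hg⟩ := MulAction.exists_smul_eq G S S'
    have hmem : g * z * g⁻¹ ∈ zpowers z' := by
      rw [← hS', ← hg, Sylow.coe_subgroup_smul]
      exact ⟨z, hS.ge (mem_zpowers z), rfl⟩
    have heq : zpowers (g * z * g⁻¹) = zpowers z' := eq_of_le_of_card_ge (zpowers_le.2 hmem)
      (by rw [Nat.card_zpowers, Nat.card_zpowers, orderOf_conj', hz, hz'])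
    have hcz : cz z' = cz (g * z * g⁻¹) := by
      show centralizer ({z'} : Set G) = centralizer ({g * z * g⁻¹} : Set G)
      rw [← centralizer_closure, ← centralizer_closure ({g * z * g⁻¹} : Set G),
        ← zpowers_eq_closure, ← zpowers_eq_closure, heq]
    show Nat.card (cz z') = Nat.card (cz z)
    rw [hcz, card_cz_conj]
  by_contra hne
  obtain ⟨q, hq, hqd, hqp⟩ : ∃ q, q.Prime ∧ q ∣ Nat.card (centralizer ({z} : Set G)) ∧ q ≠ p := by
    by_contra! h
    have e := Nat.eq_prime_pow_of_unique_prime_dvd Nat.card_pos.ne' (fun {d} hd hdn => h d hd hdn)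
    set k := (Nat.card (centralizer ({z} : Set G))).primeFactorsList.length with hk
    have hle : p ^ k ∣ Nat.card G := e ▸ card_subgroup_dvd_card _
    have hk1 := (hp.out.pow_dvd_iff_le_factorization Nat.card_pos.ne').1 hle
    rw [hf] at hk1
    interval_cases k
    · rw [e] at hpd; simp [hp.out.ne_one] at hpd
    · exact hne (by simpa using e)
  haveI := Fact.mk hq
  have hex : ∀ a : {g : G // orderOf g = p}, ∃ w : G, orderOf w = q ∧ Commute w a.1 := by
    intro a
    obtain ⟨w, hwm, hw⟩ := exists_orderOf q (H := centralizer ({a.1} : Set G))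
      (by rw [hcong _ a.2]; exact hqd)
    exact ⟨w, hw, mem_centralizer_singleton_iff.1 hwm⟩
  choose w hw hwc using hex
  have hcop : Nat.Coprime p q := (Nat.coprime_primes hp.out hq).2 hqp.symm
  let f : {g : G // orderOf g = p} → {g : G // orderOf g = p * q} := fun a => ⟨a.1 * w a, by
    rw [(hwc a).symm.orderOf_mul_eq_mul_orderOf_of_coprime (by rw [a.2, hw a]; exact hcop), a.2, hw a]⟩
  have hinj : Function.Injective f := by
    intro a b e
    have e' : (a.1 * w a) ^ q = (b.1 * w b) ^ q := by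
      rw [show a.1 * w a = b.1 * w b from congrArg Subtype.val e]
    rw [(hwc a).symm.mul_pow, (hwc b).symm.mul_pow, pow_eq_one_of (g := w a) (by rw [hw a]),
      pow_eq_one_of (g := w b) (by rw [hw b]), mul_one, mul_one] at e'
    obtain ⟨u, hu⟩ := Nat.exists_mul_mod_eq_one_of_coprime (hcop.symm) hp.out.one_lt
    have h1 : ∀ c : {g : G // orderOf g = p}, (c.1 ^ q) ^ u = c.1 := fun c => by
      rw [← pow_mul, ← pow_mod_orderOf, c.2, hu.2, pow_one]
    exact Subtype.ext (by rw [← h1 a, e', h1 b])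
  exact (Nat.card_le_card_of_injective f hinj).not_gt (hbig q hq hqp)

end H78.M22R
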