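import Mathlib.GroupTheory.Subgroup.Centralizer
import Mathlib.GroupTheory.OrderOfElement
import Mathlib.Algebra.Group.Conj
import Mathlib.SetTheory.Cardinal.Finite

/-! The local hypothesis used to identify a group of order 443520 with M22. -/

set_option autoImplicit false

namespace H78.M22R

/-- Local data shared by the groups of order 443520 to be identified with M22. -/
structure Loc (G : Type*) [Group G] : Prop where
  card : Nat.card G = 443520
  cent3 : ∀ x : G, orderOf x = 3 → Nat.card (Subgroup.centralizer ({x} : Set G)) = 36
  six : ∀ x w : G, orderOf x = 3 → Commute w x → w ^ 6 = 1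
  conj3 : ∀ x y : G, orderOf x = 3 → orderOf y = 3 → IsConj x y
  cent2 : ∀ t : G, orderOf t = 2 → Nat.card (Subgroup.centralizer ({t} : Set G)) = 384
  conj2 : ∀ s t : G, orderOf s = 2 → orderOf t = 2 → IsConj s t
  cent5 : ∀ z : G, orderOf z = 5 → Nat.card (Subgroup.centralizer ({z} : Set G)) = 5

/-- The nine values of the numbers of elements of a given order in M22. -/
def nseM22 : Set ℕ := {1, 1155, 12320, 41580, 55440, 36960, 88704, 126720, 80640}

end H78.M22R
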