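import Cfsg.Agent.H78.M22R.Fix
import Cfsg.Agent.H78.M22R.Loc
import Mathlib.Data.Finite.Perm
import Mathlib.GroupTheory.OrderOfElement

/-! No subgroup of index five in the normaliser of the sixteen-group. -/

set_option autoImplicit false
set_option linter.style.haveILetI false

namespace H78.M22R

open Subgroup

variable {G : Type*} [Group G] [Finite G]

theorem Loc.no_five (L : Loc G) {N M : Subgroup G} (hN : Nat.card N = 5760) (hM : M ≤ N)
    (hc : Nat.card M = 1152) : False := by
  haveI : Fact (Nat.Prime 3) := ⟨Nat.prime_three⟩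
  haveI : Fact (Nat.Prime 5) := ⟨Nat.prime_five⟩
  have hi : (M.subgroupOf N).index = 5 := by
    have h := (M.subgroupOf N).card_mul_index
    rw [Nat.card_congr (subgroupOfEquivOfLe hM).toEquiv, hc, hN] at h
    omega
  let W := (M.subgroupOf N).normalCore
  have hWd : W.index ∣ 120 := by
    show (M.subgroupOf N).normalCore.index ∣ 120
    rw [normalCore_eq_ker, index_ker]
    refine (card_subgroup_dvd_card _).trans ?_
    rw [Nat.card_perm, ← index_eq_card, hi]
    rfl
  have hW5 : ¬ 5 ∣ Nat.card W := by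
    intro h
    have h' := h.trans (card_dvd_of_le (normalCore_le (M.subgroupOf N)))
    rw [Nat.card_congr (subgroupOfEquivOfLe hM).toEquiv, hc] at h'
    norm_num at h'
  have hW3 : 3 ∣ Nat.card W := by
    have h := W.card_mul_index
    rw [hN] at h
    obtain ⟨q, hq⟩ := hWd
    have h48 : Nat.card W * 120 = 5760 * q := by rw [hq, ← mul_assoc, h]
    have : 120 * Nat.card W = 120 * (48 * q) := by omega
    exact Dvd.intro_left _ (show 16 * q * 3 = Nat.card W by omega)
  obtain ⟨z, hz⟩ := exists_prime_orderOf_dvd_card' (G := N) 5 (by rw [hN]; norm_num)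
  have hzG : orderOf (z : G) = 5 := by rw [Subgroup.orderOf_coe, hz]
  have hcz : cz (z : G) = zpowers (z : G) := by
    symm
    refine eq_of_le_of_card_ge (zpowers_le.2 (mem_cz.2 (Commute.refl _))) ?_
    rw [Nat.card_zpowers, hzG, L.cent5 _ hzG]
  -- a Sylow subgroup of the core fixed by `z`
  let act : MulAction (zpowers z) (Sylow 3 W) :=
    MulAction.compHom _ ((MulAut.conjNormal (H := W)).comp (zpowers z).subtype)
  have hp5 : IsPGroup 5 (zpowers z) := IsPGroup.of_card (n := 1) (by rw [Nat.card_zpowers, hz, pow_one])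
  obtain ⟨S, hS⟩ := hp5.nonempty_fixed_point_of_prime_not_dvd_card (Sylow 3 W) (by
    intro h
    obtain ⟨S⟩ : Nonempty (Sylow 3 W) := inferInstance
    exact hW5 ((h.trans (Sylow.card_dvd_index S)).trans (index_dvd_card _)))
  have hS' : ∀ s ∈ (S : Subgroup W), MulAut.conjNormal (H := W) z s ∈ (S : Subgroup W) := by
    intro s hs
    have h1 := hS ⟨z, mem_zpowers z⟩
    have h2 : MulAut.conjNormal (H := W) z s ∈
        ((MulAut.conjNormal (H := W) z • S : Sylow 3 W) : Subgroup W) := by
      exact ⟨s, hs, rfl⟩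
    have h1' : MulAut.conjNormal (H := W) z • S = S := h1
    rwa [h1'] at h2
  let V : Subgroup G := (((S : Subgroup W).map W.subtype).map N.subtype)
  have hV : Nat.card V = Nat.card (S : Subgroup W) := by
    rw [← Nat.card_congr (((S : Subgroup W).map W.subtype).equivMapOfInjective _
      N.subtype_injective).toEquiv,
      ← Nat.card_congr ((S : Subgroup W).equivMapOfInjective _ W.subtype_injective).toEquiv]
  have hVc : ∀ v ∈ V, (z : G) * v * (z : G)⁻¹ ∈ V := by
    rintro _ ⟨_, ⟨s, hs, rfl⟩, rfl⟩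
    exact ⟨W.subtype (MulAut.conjNormal z s), ⟨_, hS' s hs, rfl⟩, by simp⟩
  obtain ⟨k, hk⟩ := IsPGroup.iff_card.1 S.2
  have hk0 : k ≠ 0 := by
    intro h0
    have h := S.dvd_card_of_dvd_card hW3
    rw [hk, h0] at h
    norm_num at h
  have hk2 : k ≤ 2 := by
    have hd : 3 ^ k ∣ 5760 := by
      rw [← hk]
      refine (card_subgroup_dvd_card _).trans ?_
      exact (card_subgroup_dvd_card W).trans (by rw [hN])
    by_contra hc'
    have : 3 ^ 3 ∣ 5760 := (pow_dvd_pow 3 (by omega)).trans hd
    norm_num at this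
  -- conjugation by `z` fixes only the trivial element of that subgroup
  have hVa : ∀ (a : zpowers (z : G)) (v : V), a.1 * v.1 * a.1⁻¹ ∈ V := by
    intro a v
    obtain ⟨n, hn⟩ := (Submonoid.mem_powers_iff _ _).1
      (mem_powers_iff_mem_zpowers.2 a.2)
    rw [← hn]
    clear hn
    induction n with
    | zero => simp
    | succ n ih =>
      rw [pow_succ', show (z : G) * (z : G) ^ n * v.1 * ((z : G) * (z : G) ^ n)⁻¹ =
        (z : G) * ((z : G) ^ n * v.1 * ((z : G) ^ n)⁻¹) * (z : G)⁻¹ by group]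
      exact hVc _ ih
  let actV : MulAction (zpowers (z : G)) V :=
    { smul := fun a v => ⟨a.1 * v.1 * a.1⁻¹, hVa a v⟩
      one_smul := fun v => Subtype.ext (show (1 : G) * v.1 * (1 : G)⁻¹ = v.1 by group)
      mul_smul := fun a b v => Subtype.ext
        (show (a.1 * b.1) * v.1 * (a.1 * b.1)⁻¹ = a.1 * (b.1 * v.1 * b.1⁻¹) * a.1⁻¹ by group) }
  have hp5' : IsPGroup 5 (zpowers (z : G)) :=
    IsPGroup.of_card (n := 1) (by rw [Nat.card_zpowers, hzG, pow_one])
  have hm := hp5'.card_modEq_card_fixedPoints (α := V)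
  have hfix : Nat.card (MulAction.fixedPoints (zpowers (z : G)) V) = 1 := by
    rw [Nat.card_eq_one_iff_exists]
    refine ⟨⟨⟨1, one_mem V⟩, fun a => Subtype.ext (show a.1 * (1 : G) * a.1⁻¹ = 1 by group)⟩,
      fun f => ?_⟩
    have h1 := congrArg Subtype.val (f.2 ⟨(z : G), mem_zpowers _⟩)
    have hmem : (f.1.1 : G) ∈ zpowers (z : G) := by
      have h2 : (f.1.1 : G) ∈ cz (z : G) := mem_cz.2 (mul_inv_eq_iff_eq_mul.1 h1).symm
      exact le_of_eq hcz h2
    have ho5 : orderOf (f.1.1 : G) ∣ 5 := by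
      have := Subgroup.orderOf_dvd_natCard _ hmem
      rwa [Nat.card_zpowers, hzG] at this
    have ho3 : orderOf (f.1.1 : G) ∣ 3 ^ k := by
      have := Subgroup.orderOf_dvd_natCard _ f.1.2
      rwa [hV, hk] at this
    have h1' : orderOf (f.1.1 : G) ∣ 1 := by
      have hcop : Nat.Coprime 5 (3 ^ k) := Nat.Coprime.pow_right k (by norm_num)
      rw [← hcop]; exact Nat.dvd_gcd ho5 ho3
    exact Subtype.ext (Subtype.ext (orderOf_eq_one_iff.1 (Nat.dvd_one.1 h1')))
  rw [hfix, hV, hk] at hm
  unfold Nat.ModEq at hm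
  interval_cases k <;> first | omega | norm_num at hm

end H78.M22R
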