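import Cfsg.Agent.H78.M22R.PartT

/-! The sixteen-group and the order of its normaliser. -/

set_option autoImplicit false
set_option linter.style.haveILetI false

namespace H78.M22R

open Subgroup

variable {G : Type*} [Group G] [Finite G]

theorem mem_normalizer_of {E : Subgroup G} {g : G} (h : ∀ e ∈ E, g * e * g⁻¹ ∈ E) :
    g ∈ normalizer (E : Set G) := by
  have hle : E.map (MulAut.conj g).toMonoidHom ≤ E := by rintro _ ⟨e, he, rfl⟩; exact h e he
  have he : E.map (MulAut.conj g).toMonoidHom = E := eq_of_le_of_card_ge hle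
    (le_of_eq (Nat.card_congr (E.equivMapOfInjective _ (MulAut.conj g).injective).toEquiv))
  refine mem_normalizer_iff.2 fun v => ⟨h v, fun hv => ?_⟩
  rw [← he] at hv
  obtain ⟨e, he', e'⟩ := hv
  rwa [← (MulAut.conj g).injective (show MulAut.conj g e = MulAut.conj g v from e')]

theorem card_conj_orbit (N : Subgroup G) (t : G) :
    Nat.card {v : G // ∃ n ∈ N, n * t * n⁻¹ = v} * Nat.card (N ⊓ cz t : Subgroup G) = Nat.card N := by
  let act : MulAction N G := MulAction.compHom G ((MulAut.conj : G →* MulAut G).comp N.subtype)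
  have hs : ∀ (n : N) (g : G), n • g = (n : G) * g * (n : G)⁻¹ := fun _ _ => rfl
  have h := (MulAction.stabilizer N t).card_mul_index
  rw [MulAction.index_stabilizer, ← Nat.card_coe_set_eq] at h
  have h1 : Nat.card (MulAction.stabilizer N t) = Nat.card (N ⊓ cz t : Subgroup G) :=
    Nat.card_congr
      { toFun := fun n => ⟨n.1.1, mem_inf.2 ⟨n.1.2, mem_cz.2
          (mul_inv_eq_iff_eq_mul.1 ((hs n.1 t).symm.trans n.2))⟩⟩
        invFun := fun n => ⟨⟨n.1, (mem_inf.1 n.2).1⟩, by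
          rw [MulAction.mem_stabilizer_iff, hs]
          exact mul_inv_eq_iff_eq_mul.2 (mem_cz.1 (mem_inf.1 n.2).2).eq⟩
        left_inv := fun n => rfl
        right_inv := fun n => rfl }
  have h2 : Nat.card (MulAction.orbit N t) = Nat.card {v : G // ∃ n ∈ N, n * t * n⁻¹ = v} :=
    Nat.card_congr (Equiv.subtypeEquivRight fun v =>
      ⟨fun ⟨n, hn⟩ => ⟨n.1, n.2, (hs n t).symm.trans hn⟩,
        fun ⟨n, hn, e⟩ => ⟨⟨n, hn⟩, (hs ⟨n, hn⟩ t).trans e⟩⟩)
  rw [h1, h2] at h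
  rw [mul_comm]; exact h

/-- A two-group of order 64 normalised by an element of order three with fixed points in `E`. -/
theorem le_norm {E R : Subgroup G} {z : G} (hz : orderOf z = 3) (hE : Nat.card E = 16)
    (hR : Nat.card R = 64) (hER : E ≤ R) (hzR : ∀ a ∈ R, z * a * z⁻¹ ∈ R)
    (hzE : ∀ a ∈ E, z * a * z⁻¹ ∈ E) (hfix : ∀ a ∈ R, Commute a z → a ∈ E)
    (h4 : Nat.card {a : G // a ∈ E ∧ Commute a z} = 4) : R ≤ normalizer (E : Set G) := by
  set M := R ⊓ normalizer (E : Set G) with hM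
  have hEM : E ≤ M := le_inf hER le_normalizer
  have hzN : z ∈ normalizer (E : Set G) := mem_normalizer_of hzE
  have hS : ∀ g ∈ (M : Set G), z * g * z⁻¹ ∈ (M : Set G) := fun g hg =>
    mem_inf.2 ⟨hzR g (mem_inf.1 hg).1, mul_mem (mul_mem hzN (mem_inf.1 hg).2) (inv_mem hzN)⟩
  have h := fixed_count hz hS
  have hc : Nat.card {g : G // g ∈ (M : Set G) ∧ Commute g z} = 4 := by
    rw [← h4]
    exact Nat.card_congr (Equiv.subtypeEquivRight fun g =>
      ⟨fun hg => ⟨hfix g (mem_inf.1 hg.1).1 hg.2, hg.2⟩, fun hg => ⟨hEM hg.1, hg.2⟩⟩)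
  rw [hc] at h
  change Nat.card M % 3 = 4 % 3 at h
  have hd : Nat.card M ∣ 2 ^ 6 := by
    have := card_dvd_of_le (inf_le_left : M ≤ R)
    rwa [hR] at this
  have hgt : 16 < Nat.card M := by
    have hlt : E < R := lt_of_le_of_ne hER fun e => by rw [e, hR] at hE; omega
    obtain ⟨g, hg, hgn, hgc⟩ := exists_norm_outside
      (IsPGroup.of_card (n := 6) (by rw [hR]; rfl)) hlt
    refine lt_of_not_ge fun hle => hgn ?_
    rw [eq_of_le_of_card_ge hEM (by rw [hE]; exact hle)]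
    exact mem_inf.2 ⟨hg, mem_normalizer_of hgc⟩
  have h64 : M = R := by
    refine eq_of_le_of_card_ge inf_le_left ?_
    obtain ⟨k, hk, hk'⟩ := (Nat.dvd_prime_pow Nat.prime_two).1 hd
    rw [hk'] at h hgt ⊢
    rw [hR]
    interval_cases k <;> omega
  exact h64 ▸ inf_le_right

namespace Frame

/-- The sixteen-group of two lines. -/
def grpE (F : Frame G) (z : G) : Subgroup G := four F.x ⊔ four z

variable (F : Frame G) (L : Loc G) {R : Subgroup G} (hR : F.IsCore R)
  {z : G} (hz : z ∈ F.P) (hzx : z ∉ zpowers F.x) (hzT : four z ≤ F.partT R)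

include L hz hzx

omit [Finite G] L hz in
theorem z_ne : z ≠ 1 := fun e => hzx (e ▸ one_mem _)

theorem hz3 : orderOf z = 3 := L.order_three F.card_P hz (F.z_ne hzx)

include hR hzT

theorem mem_E {e : G} : e ∈ F.grpE z ↔ ∃ v ∈ four F.x, ∃ w ∈ four z, e = v * w := by
  constructor
  · intro he
    have hn : four z ≤ normalizer (four F.x : Set G) :=
      (le_trans hzT inf_le_right).trans (centralizer_le_normalizer _)
    have he' : e ∈ ((four F.x ⊔ four z : Subgroup G) : Set G) := he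
    rw [coe_mul_of_right_le_normalizer_left _ _ hn] at he'
    obtain ⟨v, hv, w, hw, e'⟩ := he'
    exact ⟨v, hv, w, hw, e'.symm⟩
  · rintro ⟨v, hv, w, hw, rfl⟩
    exact mul_mem (le_sup_left (b := four z) hv) (le_sup_right (a := four F.x) hw)

theorem cross {v w : G} (hv : v ∈ four F.x) (hw : w ∈ four z) : Commute v w :=
  mem_centralizer_iff.1 (mem_inf.1 (hzT hw)).2 v hv

theorem card_E : Nat.card (F.grpE z) = 16 := by
  have hn : four z ≤ normalizer (four F.x : Set G) :=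
    (le_trans hzT inf_le_right).trans (centralizer_le_normalizer _)
  have hd : four F.x ⊓ four z = ⊥ := by
    refine (eq_bot_iff_forall _).2 fun v hv => ?_
    by_contra h1
    exact hzx (L.line F.card_P F.x_mem F.x_ne hz (mem_inf.1 hv).1 h1
      ((L.mem_four (F.hz3 L hz hzx)).1 (mem_inf.1 hv).2).1.symm)
  rw [grpE, card_sup_eq hn hd, L.card_four (F.hx L), L.card_four (F.hz3 L hz hzx)]

theorem E_comm {a b : G} (ha : a ∈ F.grpE z) (hb : b ∈ F.grpE z) : Commute a b := by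
  obtain ⟨v, hv, w, hw, rfl⟩ := (F.mem_E L hR hz hzx hzT).1 ha
  obtain ⟨v', hv', w', hw', rfl⟩ := (F.mem_E L hR hz hzx hzT).1 hb
  exact ((L.four_commute (F.hx L) hv hv').mul_right (F.cross L hR hz hzx hzT hv hw')).mul_left
    ((F.cross L hR hz hzx hzT hv' hw).symm.mul_right (L.four_commute (F.hz3 L hz hzx) hw hw'))

theorem E_sq {a : G} (ha : a ∈ F.grpE z) : a * a = 1 := by
  obtain ⟨v, hv, w, hw, rfl⟩ := (F.mem_E L hR hz hzx hzT).1 ha
  rw [mul_assoc, ← mul_assoc w, ← (F.cross L hR hz hzx hzT hv hw).eq, mul_assoc v w w,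
    ((L.mem_four (F.hz3 L hz hzx)).1 hw).2, mul_one, ((L.mem_four (F.hx L)).1 hv).2]

theorem E_le_T : F.grpE z ≤ F.partT R := sup_le (F.four_le_T L hR) hzT

theorem E_le_R : F.grpE z ≤ R := (F.E_le_T L hR hz hzx hzT).trans inf_le_left

theorem P_norm_E {p a : G} (hp : p ∈ F.P) (ha : a ∈ F.grpE z) : p * a * p⁻¹ ∈ F.grpE z := by
  obtain ⟨v, hv, w, hw, rfl⟩ := (F.mem_E L hR hz hzx hzT).1 ha
  rw [show p * (v * w) * p⁻¹ = (p * v * p⁻¹) * (p * w * p⁻¹) by group]
  exact (F.mem_E L hR hz hzx hzT).2 ⟨_, L.le_four_norm F.card_P F.x_mem F.x_ne hp hv, _,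
    L.le_four_norm F.card_P hz (F.z_ne hzx) hp hw, rfl⟩

theorem P_le_N : F.P ≤ normalizer (F.grpE z : Set G) := fun _ hp =>
  mem_normalizer_of fun _ he => F.P_norm_E L hR hz hzx hzT hp he

theorem fix_card {q : G} (hq : orderOf q = 3) (hle : four q ≤ F.grpE z) :
    Nat.card {a : G // a ∈ F.grpE z ∧ Commute a q} = 4 := by
  rw [← L.card_four hq]
  exact Nat.card_congr (Equiv.subtypeEquivRight fun a =>
    ⟨fun h => (L.mem_four hq).2 ⟨h.2, F.E_sq L hR hz hzx hzT h.1⟩,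
      fun h => ⟨hle h, ((L.mem_four hq).1 h).1⟩⟩)

/-- If the four-group part is the whole core, no element moves one line to the other fixing it. -/
theorem not_R (h64 : Nat.card (F.partT R) = 64) {g : G} (hg : g ∈ normalizer (F.P : Set G))
    (hgx : g * F.x * g⁻¹ = z) (hgR : ∀ r ∈ R, g⁻¹ * r * g ∈ R) : False := by
  classical
  haveI := Fintype.ofFinite G
  have hTR : F.partT R = R := eq_of_le_of_card_ge inf_le_left (by rw [h64, hR.card])
  have hcount := L.four_count F.card_P (fun a ha => F.T_pow L hR ha)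
    (fun p hp a ha => F.P_norm_T L hR hp ha)
  rw [hTR, hR.card, Nat.card_eq_fintype_card, Fintype.card_subtype] at hcount
  let A : Finset G := Finset.univ.filter fun q => q ∈ F.P ∧ q ≠ 1
  have hA : A.card = 8 := by
    have e : A = (Finset.univ.filter fun q : G => q ∈ F.P).erase 1 := by ext q; simp [A, and_comm]
    rw [e, Finset.card_erase_of_mem (by simp [one_mem]), ← Fintype.card_subtype,
      ← Nat.card_eq_fintype_card, F.card_P]
  let B : Finset G := A.filter fun q => four q ≤ R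
  let Bc : Finset G := A.filter fun q => ¬ four q ≤ R
  have hsplit : B.card + Bc.card = A.card := Finset.card_filter_add_card_filter_not _
  have hB : B = Finset.univ.filter fun q => q ∈ F.P ∧ q ≠ 1 ∧ four q ≤ R := by
    ext q; simp [A, B, and_assoc]
  rw [← hB] at hcount
  have hzi := L.inv_ne F.card_P hz (F.z_ne hzx)
  have hxi := L.inv_ne F.card_P F.x_mem F.x_ne
  have hsub : ({F.x, F.x⁻¹, z, z⁻¹} : Finset G) ⊆ B := by
    intro q hq
    simp only [Finset.mem_insert, Finset.mem_singleton] at hq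
    rw [hB, Finset.mem_filter]
    refine ⟨Finset.mem_univ _, ?_⟩
    have hzR : four z ≤ R := hTR ▸ hzT
    rcases hq with rfl | rfl | rfl | rfl
    · exact ⟨F.x_mem, F.x_ne, F.four_le_core L hR⟩
    · exact ⟨inv_mem F.x_mem, inv_ne_one.2 F.x_ne, by
        rw [L.four_inv (F.hx L)]; exact F.four_le_core L hR⟩
    · exact ⟨hz, F.z_ne hzx, hzR⟩
    · exact ⟨inv_mem hz, inv_ne_one.2 (F.z_ne hzx), by rw [L.four_inv (F.hz3 L hz hzx)]; exact hzR⟩
  have h4 : 4 ≤ B.card := by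
    refine le_trans (le_of_eq ?_) (Finset.card_le_card hsub)
    have a1 : F.x ≠ z := fun e => hzx (e ▸ mem_zpowers _)
    have a2 : F.x ≠ z⁻¹ := fun e => hzx (by
      have := inv_mem (mem_zpowers F.x)
      rwa [e, inv_inv, ← e] at this)
    have a3 : F.x⁻¹ ≠ z := fun e => hzx (e ▸ inv_mem (mem_zpowers _))
    have a4 : F.x⁻¹ ≠ z⁻¹ := fun e => a1 (inv_injective e)
    rw [Finset.card_insert_of_notMem (by simp [hxi.symm, a1, a2]),
      Finset.card_insert_of_notMem (by simp [a3, a4]),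
      Finset.card_insert_of_notMem (by simp [hzi.symm]), Finset.card_singleton]
  have hBc : Bc.card = 2 := by omega
  obtain ⟨q, hq⟩ : Bc.Nonempty := Finset.card_pos.1 (by omega)
  have hmem : ∀ {a : G}, a ∈ Bc ↔ (a ∈ F.P ∧ a ≠ 1) ∧ ¬ four a ≤ R := by
    intro a; simp [Bc, A]
  obtain ⟨⟨hqP, hq1⟩, hqR⟩ := hmem.1 hq
  have hq3 := L.order_three F.card_P hqP hq1
  have heq : ({q, q⁻¹} : Finset G) = Bc := by
    refine Finset.eq_of_subset_of_card_le (fun a ha => ?_) ?_
    · simp only [Finset.mem_insert, Finset.mem_singleton] at ha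
      rcases ha with rfl | rfl
      · exact hq
      · exact hmem.2 ⟨⟨inv_mem hqP, inv_ne_one.2 hq1⟩, by rw [L.four_inv hq3]; exact hqR⟩
    · rw [hBc, Finset.card_pair (L.inv_ne F.card_P hqP hq1).symm]
  have hgq : g * q * g⁻¹ ∈ Bc := by
    refine hmem.2 ⟨⟨(mem_normalizer_iff.1 hg q).1 hqP, fun e => hq1 (conj_eq_one_iff.1 e)⟩,
      fun h => hqR fun v hv => ?_⟩
    have h' := hgR _ (h (L.four_conj (g := g) hq3 hv))
    rwa [show g⁻¹ * (g * v * g⁻¹) * g = v by group] at h'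
  rw [← heq] at hgq
  simp only [Finset.mem_insert, Finset.mem_singleton] at hgq
  rcases L.fixes_lines F.card_P hqP hq1 hg hgq F.x_mem with e | e
  · exact hzx (by rw [← hgx, e]; exact mem_zpowers _)
  · exact hzx (by rw [← hgx, e]; exact inv_mem (mem_zpowers _))

theorem to_T {g a : G} (hgx : g * F.x * g⁻¹ = z) (ha : ∀ w ∈ four z, Commute a w)
    (h2 : ∃ k, a ^ (2 ^ k) = 1) : g⁻¹ * a * g ∈ F.partT R := by
  refine F.two_mem_T L hR (mem_centralizer_iff.2 fun v hv => ?_) ?_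
  · have hw : g * v * g⁻¹ ∈ four z := hgx ▸ L.four_conj (g := g) (F.hx L) hv
    calc v * (g⁻¹ * a * g) = g⁻¹ * ((g * v * g⁻¹) * a) * g := by group
      _ = g⁻¹ * (a * (g * v * g⁻¹)) * g := by rw [(ha _ hw).symm.eq]
      _ = g⁻¹ * a * g * v := by group
  · obtain ⟨k, hk⟩ := h2
    exact ⟨k, by
      have := conj_pow (a := g⁻¹) (b := a) (i := 2 ^ k)
      rw [inv_inv] at this
      rw [this, hk]; group⟩

theorem centralizer_E : centralizer (F.grpE z : Set G) ≤ F.grpE z := by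
  have h16 := F.card_E L hR hz hzx hzT
  set CE := centralizer (F.grpE z : Set G) with hCE
  have hC : CE ≤ cz F.t := fun a ha => mem_cz.2
    (mem_centralizer_iff.1 ha F.t (le_sup_left (b := four z) F.t_mem)).symm
  have hd : Nat.card CE ∣ 2 ^ 7 := by
    have h1 := card_dvd_of_le hC
    rw [F.cardC L] at h1
    refine (Nat.Coprime.dvd_of_dvd_mul_right ?_ (show Nat.card CE ∣ 2 ^ 7 * 3 from h1))
    refine Nat.Coprime.symm ((Nat.prime_three.coprime_iff_not_dvd).2 fun h3 => ?_)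
    haveI : Fact (Nat.Prime 3) := ⟨Nat.prime_three⟩
    obtain ⟨q, hqC, hq⟩ := exists_orderOf 3 h3
    have hle : F.grpE z ≤ cz q := fun e he => mem_cz.2 (mem_centralizer_iff.1 hqC e he)
    have := card_dvd_of_le hle
    rw [h16, L.cent3 q hq] at this
    norm_num at this
  have h2 : ∀ a ∈ CE, ∃ k, a ^ (2 ^ k) = 1 := fun a ha =>
    ⟨7, pow_eq_one_of ((Subgroup.orderOf_dvd_natCard CE ha).trans hd)⟩
  have hT : CE ≤ F.partT R := fun a ha => F.two_mem_T L hR
    (centralizer_le (show (four F.x : Set G) ⊆ F.grpE z from fun v hv => le_sup_left (b := four z) hv) ha) (h2 a ha)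
  have hn : ∀ p ∈ F.P, ∀ a ∈ CE, p * a * p⁻¹ ∈ CE := fun p hp a ha => by
    refine mem_centralizer_iff.2 fun e he => ?_
    have he' := F.P_norm_E L hR hz hzx hzT (inv_mem hp) he
    rw [inv_inv] at he'
    calc e * (p * a * p⁻¹) = p * ((p⁻¹ * e * p) * a) * p⁻¹ := by group
      _ = p * (a * (p⁻¹ * e * p)) * p⁻¹ := by rw [mem_centralizer_iff.1 ha _ he']
      _ = p * a * p⁻¹ * e := by group
  have hEC : F.grpE z ≤ CE := fun a ha => mem_centralizer_iff.2 fun b hb =>
    (F.E_comm L hR hz hzx hzT hb ha).eq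
  have hcount := L.four_count F.card_P h2 hn
  have h64 := Nat.le_of_dvd (by rw [hR.card]; norm_num) (card_dvd_of_le (hT.trans inf_le_left))
  rw [hR.card] at h64
  have h16' := Nat.le_of_dvd Nat.card_pos (card_dvd_of_le hEC)
  rw [h16] at h16'
  obtain ⟨k, hk, hk'⟩ := (Nat.dvd_prime_pow Nat.prime_two).1 hd
  have hcases : Nat.card CE = 16 ∨ Nat.card CE = 64 := by
    rw [hk'] at hcount h64 h16' ⊢
    interval_cases k <;> omega
  rcases hcases with h | h
  · exact (eq_of_le_of_card_ge hEC (by rw [h16, h])).ge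
  exfalso
  have hCR : CE = R := eq_of_le_of_card_ge (hT.trans inf_le_left) (by rw [h, hR.card])
  have hT64 : Nat.card (F.partT R) = 64 := by
    rw [show F.partT R = R from le_antisymm inf_le_left (hCR.ge.trans hT), hR.card]
  obtain ⟨g, hg, hgx⟩ := L.fusion F.card_P F.x_mem F.x_ne hz (F.z_ne hzx)
  refine F.not_R L hR hz hzx hzT hT64 hg hgx fun r hr => ?_
  exact (mem_inf.1 (F.to_T L hR hz hzx hzT hgx
    (fun w hw => (mem_centralizer_iff.1 (hCR.ge hr) w (le_sup_right (a := four F.x) hw)).symm)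
    ⟨6, F.core_pow L hR hr⟩)).1

theorem C_le_N : cz F.t ≤ normalizer (F.grpE z : Set G) := by
  have hRN : R ≤ normalizer (F.grpE z : Set G) := le_norm (F.hx L) (F.card_E L hR hz hzx hzT)
    hR.card (F.E_le_R L hR hz hzx hzT) (fun a ha => F.x_norm L hR ha)
    (fun a ha => F.P_norm_E L hR hz hzx hzT F.x_mem ha)
    (fun a ha hc => le_sup_left (b := four z) (F.fix_mem_four L hR ha hc))
    (F.fix_card L hR hz hzx hzT (F.hx L) le_sup_left)
  have hxN := F.P_le_N L hR hz hzx hzT F.x_mem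
  have hτN : F.τ ∈ normalizer (F.grpE z : Set G) := mem_normalizer_of fun e he => by
    obtain ⟨v, hv, w, hw, rfl⟩ := (F.mem_E L hR hz hzx hzT).1 he
    have hw' : F.τ * w * F.τ⁻¹ ∈ four z := by
      have h := L.four_conj (g := F.τ) (F.hz3 L hz hzx) hw
      rwa [F.τ_inv _ hz, L.four_inv (F.hz3 L hz hzx)] at h
    rw [show F.τ * (v * w) * F.τ⁻¹ = (F.τ * v * F.τ⁻¹) * (F.τ * w * F.τ⁻¹) by group]
    exact (F.mem_E L hR hz hzx hzT).2 ⟨_, F.τ_four L hv, _, hw', rfl⟩
  intro g hg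
  rcases F.cases_τ L hR hg with h | h
  · obtain ⟨⟨r, hr, w, hw, rfl⟩, -⟩ := F.mem_of_comm L hR hg h
    exact mul_mem (hRN hr) (zpowers_le.2 hxN hw)
  · obtain ⟨⟨r, hr, w, hw, e⟩, -⟩ := F.mem_of_comm L hR (mul_mem hg (F.τ_memC L)) h
    have h' : g * F.τ ∈ normalizer (F.grpE z : Set G) := e ▸ mul_mem (hRN hr) (zpowers_le.2 hxN hw)
    exact (Subgroup.mul_mem_cancel_right _ hτN).1 h'

theorem four_orbit {M : Subgroup G} (hP : F.P ≤ M) {v : G} (hv : v ∈ four F.x) (hv1 : v ≠ 1) :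
    ∃ n ∈ M, n * F.t * n⁻¹ = v := by
  rcases L.trans F.card_P F.x_mem F.x_ne F.y_mem F.y_not F.t_mem F.t_ne hv hv1 with e | e | e
  · exact ⟨1, one_mem _, by rw [e]; group⟩
  · exact ⟨F.y, hP F.y_mem, e.symm⟩
  · exact ⟨F.y⁻¹, inv_mem (hP F.y_mem), by rw [e]; group⟩

theorem four_nonone : Nat.card {v : G // v ∈ four F.x ∧ v ≠ 1} = 3 := by
  rw [← L.inv_three (F.hx L)]
  haveI : Fact (Nat.Prime 2) := ⟨Nat.prime_two⟩
  refine Nat.card_congr (Equiv.subtypeEquivRight fun v => ?_)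
  rw [L.mem_four (F.hx L)]
  exact ⟨fun h => ⟨orderOf_eq_prime (by rw [pow_two, h.1.2]) h.2, h.1.1⟩, fun h =>
    ⟨⟨h.2, by rw [← pow_two, ← h.1]; exact pow_orderOf_eq_one v⟩, fun e => by
      rw [e, orderOf_one] at h; omega⟩⟩

/-- The orbit of the involution under the normaliser is not just the four-group. -/
theorem not_small (hsmall : ∀ n ∈ normalizer (F.grpE z : Set G), n * F.t * n⁻¹ ∈ four F.x) :
    False := by
  haveI : Fact (Nat.Prime 2) := ⟨Nat.prime_two⟩
  set N := normalizer (F.grpE z : Set G) with hN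
  have hC := F.C_le_N L hR hz hzx hzT
  have hP := F.P_le_N L hR hz hzx hzT
  have hnorm : ∀ n ∈ N, ∀ v ∈ four F.x, n * v * n⁻¹ ∈ four F.x := by
    intro n hn v hv
    by_cases hv1 : v = 1
    · subst hv1; simp [one_mem]
    obtain ⟨m, hm, rfl⟩ := F.four_orbit L hR hz hzx hzT hP hv hv1
    have h := hsmall (n * m) (mul_mem hn hm)
    rwa [show n * m * F.t * (n * m)⁻¹ = n * (m * F.t * m⁻¹) * n⁻¹ by group] at h
  have hTR : F.partT R = R := le_antisymm inf_le_left fun r hr =>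
    F.norm_four_mem_T L hR hr fun v hv => hnorm r (hC (hR.le hr)) v hv
  have hT64 : Nat.card (F.partT R) = 64 := by rw [hTR, hR.card]
  obtain ⟨g, hg, hgx⟩ := L.fusion F.card_P F.x_mem F.x_ne hz (F.z_ne hzx)
  let R' := R.map (MulAut.conj g).toMonoidHom
  have hmem : ∀ {a : G}, a ∈ R' ↔ g⁻¹ * a * g ∈ R := fun {a} =>
    ⟨by rintro ⟨r, hr, rfl⟩
        simpa [MulAut.conj_apply, mul_assoc] using hr,
     fun h => ⟨_, h, by simp [MulAut.conj_apply, mul_assoc]⟩⟩
  have hR'card : Nat.card R' = 64 :=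
    (Nat.card_congr (R.equivMapOfInjective _ (MulAut.conj g).injective).toEquiv).symm.trans hR.card
  have hgP : ∀ p ∈ F.P, g⁻¹ * p * g ∈ F.P := fun p hp => by
    have h := (mem_normalizer_iff.1 (inv_mem hg) p).1 hp
    rwa [inv_inv] at h
  have hPR' : ∀ p ∈ F.P, ∀ a ∈ R', p * a * p⁻¹ ∈ R' := fun p hp a ha => by
    rw [hmem] at ha ⊢
    have h := F.P_norm_T L hR (hgP p hp) (hTR.ge ha)
    have h' := (mem_inf.1 h).1
    rwa [show g⁻¹ * p * g * (g⁻¹ * a * g) * (g⁻¹ * p * g)⁻¹ = g⁻¹ * (p * a * p⁻¹) * g by group] at h'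
  have hER' : F.grpE z ≤ R' := fun e he => hmem.2 (mem_inf.1 (F.to_T L hR hz hzx hzT hgx
    (fun w hw => F.E_comm L hR hz hzx hzT he (le_sup_right (a := four F.x) hw))
    ⟨1, by rw [pow_one, pow_two]; exact F.E_sq L hR hz hzx hzT he⟩)).1
  have hR'N : R' ≤ N := le_norm (F.hz3 L hz hzx) (F.card_E L hR hz hzx hzT) hR'card hER'
    (hPR' z hz) (fun a ha => F.P_norm_E L hR hz hzx hzT hz ha)
    (fun a ha hc => le_sup_right (a := four F.x) (by
      have hc' : Commute (g⁻¹ * a * g) F.x := by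
        rw [← commute_conj_iff g, hgx, show g * (g⁻¹ * a * g) * g⁻¹ = a by group]
        exact hc
      have h := L.four_conj (g := g) (F.hx L) (F.fix_mem_four L hR (hmem.1 ha) hc')
      rwa [hgx, show g * (g⁻¹ * a * g) * g⁻¹ = a by group] at h))
    (F.fix_card L hR hz hzx hzT (F.hz3 L hz hzx) le_sup_right)
  have hRn : ∀ n ∈ N, ∀ r ∈ R, n * r * n⁻¹ ∈ R := by
    intro n hn r hr
    obtain ⟨p, hp, e⟩ := F.four_orbit L hR hz hzx hzT (le_refl F.P) (hsmall n hn)
      fun e => F.t_ne (conj_eq_one_iff.1 e)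
    have hc : p⁻¹ * n ∈ cz F.t := mem_cz.2 (mul_inv_eq_iff_eq_mul.1 (by
      calc p⁻¹ * n * F.t * (p⁻¹ * n)⁻¹ = p⁻¹ * (n * F.t * n⁻¹) * p := by group
        _ = p⁻¹ * (p * F.t * p⁻¹) * p := by rw [e]
        _ = F.t := by group))
    have h := (mem_inf.1 (F.P_norm_T L hR hp (hTR.ge (hR.norm _ hc r hr)))).1
    rwa [show p * (p⁻¹ * n * r * (p⁻¹ * n)⁻¹) * p⁻¹ = n * r * n⁻¹ by group] at h
  haveI : (R.subgroupOf N).Normal :=
    ⟨fun m hm n => hRn n.1 n.2 m.1 (mem_subgroupOf.1 hm)⟩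
  have hNcard : Nat.card N = 1152 := by
    have h := card_conj_orbit N F.t
    rw [inf_eq_right.2 hC, F.cardC L] at h
    have h3 : Nat.card {v : G // ∃ n ∈ N, n * F.t * n⁻¹ = v} = 3 := by
      rw [← F.four_nonone L hR hz hzx hzT]
      exact Nat.card_congr (Equiv.subtypeEquivRight fun v =>
        ⟨fun ⟨n, hn, e⟩ => e ▸ ⟨hsmall n hn, fun e' => F.t_ne (conj_eq_one_iff.1 e')⟩,
          fun hv => F.four_orbit L hR hz hzx hzT hP hv.1 hv.2⟩)
    rw [h3] at h
    omega
  let φ := QuotientGroup.mk' (R.subgroupOf N)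
  have h0 : ∀ {a : N}, φ a = 1 ↔ (a : G) ∈ R := fun {a} =>
    (QuotientGroup.eq_one_iff a).trans mem_subgroupOf
  have hQ : Nat.card (N ⧸ R.subgroupOf N) = 18 := by
    have h := (R.subgroupOf N).card_mul_index
    rw [Nat.card_congr (subgroupOfEquivOfLe (hR.le.trans hC)).toEquiv, hR.card, hNcard] at h
    rw [← index_eq_card]; omega
  let W := (R'.subgroupOf N).map φ
  have hW : Nat.card W ≤ 2 := by
    have h1 : Nat.card W ∣ 64 := by
      rw [← hR'card, ← Nat.card_congr (subgroupOfEquivOfLe hR'N).toEquiv]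
      exact card_map_dvd _ _
    have h2 := card_subgroup_dvd_card W
    rw [hQ] at h2
    exact Nat.le_of_dvd (by norm_num) (Nat.dvd_gcd h1 h2)
  have hRR' : R' ≤ R := by
    intro j hj
    by_contra hjR
    let j' : N := ⟨j, hR'N hj⟩
    let x' : N := ⟨F.x, hP F.x_mem⟩
    have hjW : φ j' ∈ W := ⟨j', mem_subgroupOf.2 hj, rfl⟩
    have hxW : φ (x' * j' * x'⁻¹) ∈ W :=
      ⟨_, mem_subgroupOf.2 (hPR' _ F.x_mem j hj), rfl⟩
    have hj1 : φ j' ≠ 1 := fun e => hjR (h0.1 e)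
    have hxj1 : φ (x' * j' * x'⁻¹) ≠ 1 := fun e => hj1 (by
      rw [map_mul, map_mul, map_inv] at e; exact conj_eq_one_iff.1 e)
    have huniq : ∀ {a b : N ⧸ R.subgroupOf N}, a ∈ W → b ∈ W → a ≠ 1 → b ≠ 1 → a = b := by
      intro a b ha hb ha1 hb1
      by_contra hab
      classical
      have hsub : ({1, a, b} : Finset (N ⧸ R.subgroupOf N)).card ≤ Nat.card W := by
        haveI := Fintype.ofFinite (N ⧸ R.subgroupOf N)
        rw [Nat.card_eq_fintype_card, Fintype.card_subtype]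
        refine Finset.card_le_card fun c hc => ?_
        simp only [Finset.mem_insert, Finset.mem_singleton] at hc
        rcases hc with rfl | rfl | rfl <;> simp [one_mem, ha, hb]
      rw [Finset.card_insert_of_notMem (by simp [ha1.symm, hb1.symm]),
        Finset.card_pair hab] at hsub
      omega
    have heq := huniq hxW hjW hxj1 hj1
    have hc1 : j * F.x * j⁻¹ * F.x⁻¹ ∈ R := by
      refine (h0 (a := j' * x' * j'⁻¹ * x'⁻¹)).1 ?_
      rw [map_mul, map_mul, map_inv] at heq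
      rw [map_mul, map_mul, map_mul, map_inv, map_inv,
        ← mul_inv_eq_iff_eq_mul.1 heq, mul_inv_cancel_right, mul_inv_cancel]
    obtain ⟨p, hp, e⟩ := F.four_orbit L hR hz hzx hzT (le_refl F.P) (hsmall j (hR'N hj))
      fun e => F.t_ne (conj_eq_one_iff.1 e)
    have hjC : p⁻¹ * j ∈ cz F.t := mem_cz.2 (mul_inv_eq_iff_eq_mul.1 (by
      calc p⁻¹ * j * F.t * (p⁻¹ * j)⁻¹ = p⁻¹ * (j * F.t * j⁻¹) * p := by group
        _ = p⁻¹ * (p * F.t * p⁻¹) * p := by rw [e]
        _ = F.t := by group))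
    have hcomm : p⁻¹ * j * F.x * (p⁻¹ * j)⁻¹ * F.x⁻¹ ∈ R := by
      have h := hRn _ (inv_mem (hP hp)) _ hc1
      rw [inv_inv] at h
      convert h using 1
      calc p⁻¹ * j * F.x * (p⁻¹ * j)⁻¹ * F.x⁻¹ = p⁻¹ * (j * F.x * j⁻¹) * p * F.x⁻¹ := by group
        _ = p⁻¹ * (j * F.x * j⁻¹) * (F.x⁻¹ * p) := by
            rw [((L.commP F.card_P hp (inv_mem F.x_mem)).eq).symm]; group
        _ = p⁻¹ * (j * F.x * j⁻¹ * F.x⁻¹) * p := by group
    obtain ⟨⟨r, hr, w, hw, e'⟩, -⟩ := F.mem_of_comm L hR hjC hcomm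
    let q : N := ⟨p * w, mul_mem (hP hp) (zpowers_le.2 (hP F.x_mem) hw)⟩
    have hjq : φ j' = φ q := by
      rw [← mul_inv_eq_one, ← map_inv, ← map_mul]
      refine h0.2 ?_
      show j * (p * w)⁻¹ ∈ R
      rw [show j * (p * w)⁻¹ = p * (p⁻¹ * j * w⁻¹) * p⁻¹ by group, e', mul_inv_cancel_right]
      exact hRn _ (hP hp) r hr
    have hq3 : φ q ^ 3 = 1 := by
      rw [← map_pow, show q ^ 3 = 1 from Subtype.ext (L.cube F.card_P
        (mul_mem hp (zpowers_le.2 F.x_mem hw))), map_one]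
    have hq2 : φ j' ^ 2 = 1 := by
      by_contra h
      have hm : φ j' ^ 2 ∈ W := pow_mem hjW 2
      have e2 := huniq hm hjW h hj1
      rw [pow_two, mul_eq_left] at e2
      exact hj1 e2
    apply hj1
    rw [hjq] at hq2 ⊢
    rw [pow_succ, hq2, one_mul] at hq3
    exact hq3
  refine F.not_R L hR hz hzx hzT hT64 hg hgx fun r hr => hmem.1 ?_
  rwa [eq_of_le_of_card_ge hRR' (by rw [hR'card, hR.card])]

theorem card_N : Nat.card (normalizer (F.grpE z : Set G)) = 5760 ∧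
    ∀ v ∈ F.grpE z, v ≠ 1 → ∃ n ∈ normalizer (F.grpE z : Set G), n * F.t * n⁻¹ = v := by
  classical
  haveI := Fintype.ofFinite G
  set N := normalizer (F.grpE z : Set G) with hN
  have hC := F.C_le_N L hR hz hzx hzT
  have hP := F.P_le_N L hR hz hzx hzT
  have hO := card_conj_orbit N F.t
  rw [inf_eq_right.2 hC, F.cardC L] at hO
  set O := {v : G // ∃ n ∈ N, n * F.t * n⁻¹ = v} with hOdef
  have hOE : ∀ {v : G}, (∃ n ∈ N, n * F.t * n⁻¹ = v) → v ∈ F.grpE z ∧ v ≠ 1 := by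
    rintro v ⟨n, hn, rfl⟩
    exact ⟨(mem_normalizer_iff.1 hn F.t).1 (le_sup_left (b := four z) F.t_mem),
      fun e => F.t_ne (conj_eq_one_iff.1 e)⟩
  have hE15 : Nat.card {v : G // v ∈ F.grpE z ∧ v ≠ 1} = 15 := by
    rw [Nat.card_eq_fintype_card, Fintype.card_subtype]
    have e : (Finset.univ.filter fun v : G => v ∈ F.grpE z ∧ v ≠ 1) =
        (Finset.univ.filter fun v : G => v ∈ F.grpE z).erase 1 := by ext v; simp [and_comm]
    rw [e, Finset.card_erase_of_mem (by simp [one_mem]), ← Fintype.card_subtype,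
      ← Nat.card_eq_fintype_card, F.card_E L hR hz hzx hzT]
  let ι : O → {v : G // v ∈ F.grpE z ∧ v ≠ 1} := fun v => ⟨v.1, hOE v.2⟩
  have hι : Function.Injective ι := fun a b e => Subtype.ext (congrArg (fun u : {v : G // v ∈ F.grpE z ∧ v ≠ 1} => u.1) e)
  have h15 : Nat.card O ≤ 15 := hE15 ▸ Nat.card_le_card_of_injective ι hι
  have h3 : 3 ∣ Nat.card O := by
    haveI : Fact (Nat.Prime 3) := ⟨Nat.prime_three⟩
    let act : MulAction F.P O :=
      { smul := fun p v => ⟨p.1 * v.1 * p.1⁻¹, by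
          obtain ⟨n, hn, e⟩ := v.2
          exact ⟨p.1 * n, mul_mem (hP p.2) hn, by rw [← e]; group⟩⟩
        one_smul := fun v => Subtype.ext (show (1 : G) * v.1 * (1 : G)⁻¹ = v.1 by group)
        mul_smul := fun p q v => Subtype.ext
          (show (p.1 * q.1) * v.1 * (p.1 * q.1)⁻¹ = p.1 * (q.1 * v.1 * q.1⁻¹) * p.1⁻¹ by group) }
    have h := (IsPGroup.of_card (n := 2) (by rw [F.card_P]; rfl) : IsPGroup 3 F.P).card_modEq_card_fixedPoints
      (α := O)
    haveI : IsEmpty (MulAction.fixedPoints F.P O) := ⟨fun f => by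
      obtain ⟨hvE, hv1⟩ := hOE f.1.2
      have hvP : f.1.1 ∈ F.P := L.centralizer_le F.card_P (mem_centralizer_iff.2 fun p hp =>
        mul_inv_eq_iff_eq_mul.1 (congrArg Subtype.val (f.2 ⟨p, hp⟩)))
      exact L.inv_ne F.card_P hvP hv1
        (inv_eq_of_mul_eq_one_left (F.E_sq L hR hz hzx hzT hvE))⟩
    rw [Nat.card_of_isEmpty (α := MulAction.fixedPoints F.P O)] at h
    exact Nat.modEq_zero_iff_dvd.1 h
  have hd : Nat.card O ∣ 1155 := by
    have h := card_subgroup_dvd_card N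
    rw [← hO, L.card, show (443520 : ℕ) = 1155 * 384 by norm_num] at h
    exact Nat.dvd_of_mul_dvd_mul_right (by norm_num) h
  have hne : Nat.card O ≠ 0 := by
    haveI : Nonempty O := ⟨⟨F.t, 1, one_mem _, by group⟩⟩
    exact Nat.card_pos.ne'
  have hcases : Nat.card O = 3 ∨ Nat.card O = 15 := by
    interval_cases h : Nat.card O <;> omega
  rcases hcases with h | h
  · exfalso
    refine F.not_small L hR hz hzx hzT fun n hn => ?_
    let κ : {v : G // v ∈ four F.x ∧ v ≠ 1} → O := fun v =>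
      ⟨v.1, F.four_orbit L hR hz hzx hzT hP v.2.1 v.2.2⟩
    have hκ : Function.Bijective κ := (Nat.bijective_iff_injective_and_card κ).2
      ⟨fun a b e => Subtype.ext (congrArg (fun u : O => u.1) e),
        by rw [F.four_nonone L hR hz hzx hzT, h]⟩
    obtain ⟨v, hv⟩ := hκ.2 ⟨n * F.t * n⁻¹, n, hn, rfl⟩
    have e : v.1 = n * F.t * n⁻¹ := congrArg (fun u : O => u.1) hv
    exact e ▸ v.2.1
  · refine ⟨by omega, fun v hv hv1 => ?_⟩
    have hb : Function.Bijective ι := (Nat.bijective_iff_injective_and_card ι).2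
      ⟨hι, by rw [h, hE15]⟩
    obtain ⟨u, hu⟩ := hb.2 ⟨v, hv, hv1⟩
    have e : u.1 = v := congrArg Subtype.val hu
    exact e ▸ u.2

end Frame

end H78.M22R
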