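import Cfsg.Agent.H78.M22R.Counts
import Cfsg.Agent.H78.M22R.PartE
import Mathlib.Tactic.NormNum.Prime

/-! The order and the counts of elements by order give the local data of M22. -/

set_option autoImplicit false
set_option linter.style.haveILetI false

namespace H78.M22R

open Subgroup

variable {G : Type*} [Group G] [Finite G]

theorem comm_of_card_nine {P : Subgroup G} (h : Nat.card P = 9) :
    ∀ a ∈ P, ∀ b ∈ P, Commute a b := fun a ha b hb => by
  haveI : Fact (Nat.Prime 3) := ⟨Nat.prime_three⟩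
  exact congrArg Subtype.val (IsPGroup.commutative_of_card_eq_prime_sq (p := 3) (G := P)
    (by rw [h]; norm_num) (⟨a, ha⟩ : P) ⟨b, hb⟩)

/-- With an abelian Sylow subgroup the number of elements of order `p` is `-1` modulo `p`. -/
theorem dvd_cnt_succ {p : ℕ} [hp : Fact p.Prime] (P : Sylow p G) (hpd : p ∣ Nat.card G)
    (hab : ∀ a ∈ (P : Subgroup G), ∀ b ∈ (P : Subgroup G), Commute a b) : p ∣ cnt G p + 1 := by
  let K : Subgroup G :=
    { carrier := {g | g ∈ (P : Subgroup G) ∧ g ^ p = 1}
      one_mem' := ⟨one_mem _, one_pow p⟩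
      mul_mem' := fun {a b} ha hb =>
        ⟨mul_mem ha.1 hb.1, by rw [(hab a ha.1 b hb.1).mul_pow, ha.2, hb.2, one_mul]⟩
      inv_mem' := fun {a} ha => ⟨inv_mem ha.1, by rw [inv_pow, ha.2, inv_one]⟩ }
  have hK : p ∣ Nat.card K := by
    obtain ⟨g, hg, hgo⟩ := exists_orderOf p (P.dvd_card_of_dvd_card hpd)
    rw [← hgo]
    exact Subgroup.orderOf_dvd_natCard K ⟨hg, by rw [← hgo]; exact pow_orderOf_eq_one g⟩
  have e : Nat.card {g : G // g ∈ (P : Subgroup G) ∧ orderOf g = p} + 1 = Nat.card K := by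
    classical
    haveI := Fintype.ofFinite G
    have e1 : Nat.card K = (Finset.univ.filter fun g : G => g ∈ K).card := by
      rw [Nat.card_eq_fintype_card, Fintype.card_subtype]
    rw [e1, Nat.card_eq_fintype_card, Fintype.card_subtype,
      show (Finset.univ.filter fun g : G => g ∈ (P : Subgroup G) ∧ orderOf g = p) =
        (Finset.univ.filter fun g : G => g ∈ K).erase 1 by
      ext g
      simp only [Finset.mem_filter, Finset.mem_univ, true_and, Finset.mem_erase]
      constructor
      · rintro ⟨h1, h2⟩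
        exact ⟨fun e => by rw [e, orderOf_one] at h2; exact hp.out.one_lt.ne h2,
          h1, by rw [← h2]; exact pow_orderOf_eq_one g⟩
      · rintro ⟨h1, h2⟩
        exact ⟨h2.1, orderOf_eq_prime h2.2 h1⟩,
      Finset.card_erase_add_one (by simp [one_mem])]
  have h := (cnt_modEq P hab).add_right 1
  rw [e] at h
  exact (Nat.ModEq.dvd_iff h dvd_rfl).2 hK

theorem exists_sylow_nine (hcard : Nat.card G = 443520) :
    ∀ P : Sylow 3 G, Nat.card (P : Subgroup G) = 9 := by
  haveI : Fact (Nat.Prime 3) := ⟨Nat.prime_three⟩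
  intro P
  rw [Sylow.card_eq_multiplicity, hcard, show (443520 : ℕ) = 3 ^ 2 * 49280 by norm_num,
    Nat.factorization_mul (by norm_num) (by norm_num), Nat.prime_three.factorization_pow]
  simp [Nat.factorization_eq_zero_of_not_dvd (show ¬ 3 ∣ 49280 by norm_num)]

theorem factorization_one (hcard : Nat.card G = 443520) {p : ℕ} (hp : p = 5 ∨ p = 7 ∨ p = 11) :
    (Nat.card G).factorization p = 1 := by
  rw [hcard]
  rcases hp with rfl | rfl | rfl
  · rw [show (443520 : ℕ) = 5 ^ 1 * 88704 by norm_num, Nat.factorization_mul (by norm_num)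
      (by norm_num), (show Nat.Prime 5 by norm_num).factorization_pow]
    simp [Nat.factorization_eq_zero_of_not_dvd (show ¬ 5 ∣ 88704 by norm_num)]
  · rw [show (443520 : ℕ) = 7 ^ 1 * 63360 by norm_num, Nat.factorization_mul (by norm_num)
      (by norm_num), (show Nat.Prime 7 by norm_num).factorization_pow]
    simp [Nat.factorization_eq_zero_of_not_dvd (show ¬ 7 ∣ 63360 by norm_num)]
  · rw [show (443520 : ℕ) = 11 ^ 1 * 40320 by norm_num, Nat.factorization_mul (by norm_num)
      (by norm_num), (show Nat.Prime 11 by norm_num).factorization_pow]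
    simp [Nat.factorization_eq_zero_of_not_dvd (show ¬ 11 ∣ 40320 by norm_num)]

/-- The count of elements of the order of a prime other than two. -/
theorem cnt_prime (hcard : Nat.card G = 443520)
    (hval : ∀ n, 0 < cnt G n → cnt G n ∈ nseM22) {p v : ℕ}
    (hp : p = 3 ∧ v = 12320 ∨ p = 5 ∧ v = 88704 ∨ p = 7 ∧ v = 126720 ∨ p = 11 ∧ v = 80640) :
    cnt G p = v := by
  have hpp : p.Prime := by
    rcases hp with ⟨rfl, -⟩ | ⟨rfl, -⟩ | ⟨rfl, -⟩ | ⟨rfl, -⟩ <;> norm_num
  haveI := Fact.mk hpp
  have hd : p ∣ Nat.card G := by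
    rw [hcard]
    rcases hp with ⟨rfl, -⟩ | ⟨rfl, -⟩ | ⟨rfl, -⟩ | ⟨rfl, -⟩ <;> norm_num
  obtain ⟨P⟩ : Nonempty (Sylow p G) := inferInstance
  have hab : ∀ a ∈ (P : Subgroup G), ∀ b ∈ (P : Subgroup G), Commute a b := by
    by_cases h3 : p = 3
    · subst h3; exact comm_of_card_nine (exists_sylow_nine hcard P)
    · have hP : Nat.card (P : Subgroup G) = p := by
        rw [Sylow.card_eq_multiplicity, factorization_one hcard (by omega), pow_one]
      intro a ha b hb
      haveI : IsCyclic (P : Subgroup G) := isCyclic_of_prime_card hP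
      obtain ⟨g, hg⟩ := IsCyclic.exists_generator (α := (P : Subgroup G))
      obtain ⟨i, hi⟩ := mem_zpowers_iff.1 (hg ⟨a, ha⟩)
      obtain ⟨j, hj⟩ := mem_zpowers_iff.1 (hg ⟨b, hb⟩)
      have e := (Commute.zpow_zpow (Commute.refl g) i j)
      rw [hi, hj] at e
      exact congrArg Subtype.val e
  have h := dvd_cnt_succ P hd hab
  obtain ⟨g, hg⟩ := exists_prime_orderOf_dvd_card' p hd
  have hv := hval p (cnt_pos.2 ⟨g, hg⟩)
  simp only [nseM22, Set.mem_insert_iff, Set.mem_singleton_iff] at hv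
  rcases hp with ⟨rfl, rfl⟩ | ⟨rfl, rfl⟩ | ⟨rfl, rfl⟩ | ⟨rfl, rfl⟩ <;>
    rcases hv with e | e | e | e | e | e | e | e | e <;> omega

/-- What the counts give about the orders of elements. -/
theorem orders_of_nse (hcard : Nat.card G = 443520)
    (hnse : {c : ℕ | 0 < c ∧ ∃ n : ℕ, c = Nat.card {g : G // orderOf g = n}} = nseM22) :
    cnt G 2 = 1155 ∧ cnt G 3 = 12320 ∧ cnt G 6 = 36960 ∧
    (∀ x w : G, orderOf x = 3 → Commute w x → w ^ 6 = 1) ∧
    (∀ p, p = 5 ∨ p = 7 ∨ p = 11 → ∀ z : G, orderOf z = p →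
      Nat.card (centralizer ({z} : Set G)) = p) := by
  classical
  have hval : ∀ n, 0 < cnt G n → cnt G n ∈ nseM22 := fun n hn => hnse ▸ ⟨hn, n, rfl⟩
  have hatt : ∀ v ∈ nseM22, ∃ n, cnt G n = v := fun v hv => by
    rw [← hnse] at hv
    exact hv.2.imp fun n h => h.symm
  have h2 : cnt G 2 = 1155 := by
    obtain ⟨n, hn⟩ := hatt 1155 (by simp [nseM22])
    rcases (by omega : n = 0 ∨ n = 1 ∨ n = 2 ∨ 2 < n) with rfl | rfl | rfl | h
    · rw [cnt_zero] at hn; omega
    · rw [cnt_one] at hn; omega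
    · exact hn
    · have := even_cnt (G := G) h
      rw [hn] at this; exact absurd this (by decide)
  have h3 := cnt_prime hcard hval (p := 3) (v := 12320) (by simp)
  have h5 := cnt_prime hcard hval (p := 5) (v := 88704) (by simp)
  have h7 := cnt_prime hcard hval (p := 7) (v := 126720) (by simp)
  have h11 := cnt_prime hcard hval (p := 11) (v := 80640) (by simp)
  have h1 := cnt_one (G := G)
  obtain ⟨a, ha⟩ := hatt 41580 (by simp [nseM22])
  obtain ⟨b, hb⟩ := hatt 55440 (by simp [nseM22])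
  obtain ⟨c, hc⟩ := hatt 36960 (by simp [nseM22])
  have na : ∀ m, cnt G m ≠ 41580 → a ≠ m := fun m hm e => hm (e ▸ ha)
  have nb : ∀ m, cnt G m ≠ 55440 → b ≠ m := fun m hm e => hm (e ▸ hb)
  have nc : ∀ m, cnt G m ≠ 36960 → c ≠ m := fun m hm e => hm (e ▸ hc)
  have a1 := na 1 (by omega); have a2 := na 2 (by omega); have a3 := na 3 (by omega)
  have a5 := na 5 (by omega); have a7 := na 7 (by omega); have a11 := na 11 (by omega)
  have b1 := nb 1 (by omega); have b2 := nb 2 (by omega); have b3 := nb 3 (by omega)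
  have b5 := nb 5 (by omega); have b7 := nb 7 (by omega); have b11 := nb 11 (by omega)
  have c1 := nc 1 (by omega); have c2 := nc 2 (by omega); have c3 := nc 3 (by omega)
  have c5 := nc 5 (by omega); have c7 := nc 7 (by omega); have c11 := nc 11 (by omega)
  have ab := na b (by omega); have ac := na c (by omega); have bc := nb c (by omega)
  set T : Finset ℕ := {1, 2, 3, 5, 7, 11, a, b, c} with hTdef
  have hexp : ∀ f : ℕ → ℕ, ∑ n ∈ T, f n =
      f 1 + f 2 + f 3 + f 5 + f 7 + f 11 + f a + f b + f c := by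
    intro f
    rw [hTdef, Finset.sum_insert (by simp [a1.symm, b1.symm, c1.symm]),
      Finset.sum_insert (by simp [a2.symm, b2.symm, c2.symm]),
      Finset.sum_insert (by simp [a3.symm, b3.symm, c3.symm]),
      Finset.sum_insert (by simp [a5.symm, b5.symm, c5.symm]),
      Finset.sum_insert (by simp [a7.symm, b7.symm, c7.symm]),
      Finset.sum_insert (by simp [a11.symm, b11.symm, c11.symm]),
      Finset.sum_insert (by simp [ab, ac]), Finset.sum_insert (by simp [bc]), Finset.sum_singleton]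
    ring
  have hsum : ∑ n ∈ T, cnt G n = Nat.card G := by
    rw [hexp, h1, h2, h3, h5, h7, h11, ha, hb, hc, hcard]
  have hT : ∀ g : G, orderOf g ∈ T := fun g => by
    by_contra h
    exact (cnt_pos.2 ⟨g, rfl⟩).ne' (cnt_eq_zero_of_sum hsum h)
  have hmem : ∀ {n}, n ∈ T ↔ n = 1 ∨ n = 2 ∨ n = 3 ∨ n = 5 ∨ n = 7 ∨ n = 11 ∨ n = a ∨ n = b ∨ n = c :=
    fun {n} => by simp [T]
  have hpos : ∀ {n}, 0 < cnt G n → n ∈ T := fun {n} hn => by
    obtain ⟨g, rfl⟩ := cnt_pos.1 hn
    exact hT g
  -- self-centralising elements of order 5, 7, 11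
  have hcp : ∀ p, p = 5 ∨ p = 7 ∨ p = 11 → ∀ z : G, orderOf z = p →
      Nat.card (centralizer ({z} : Set G)) = p := by
    intro p hp z hz
    haveI : Fact p.Prime := ⟨by rcases hp with rfl | rfl | rfl <;> norm_num⟩
    refine centralizer_eq_prime (factorization_one hcard hp) (fun q hq hqp => ?_) hz
    have hbig : 80640 ≤ cnt G p := by rcases hp with rfl | rfl | rfl <;> omega
    by_contra hlt
    have hne : 0 < cnt G (p * q) := by omega
    have hq2 := hq.two_le
    have hp5 : 5 ≤ p := by omega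
    have h10 : 10 ≤ p * q := Nat.mul_le_mul hp5 hq2
    have h11' : p * q ≠ 11 := fun e => by
      rcases (Nat.dvd_prime (show Nat.Prime 11 by norm_num)).1 ⟨q, e.symm⟩ with e' | e'
      · omega
      · rw [e'] at e; omega
    rcases hmem.1 (hpos hne) with e | e | e | e | e | e | e | e | e
    all_goals first
      | omega
      | (rw [e] at hlt; omega)
  -- the numbers of solutions of two equations
  have hroots : ∀ m, m ∣ Nat.card G → m ∣ (if 1 ∣ m then 1 else 0) + (if 2 ∣ m then 1155 else 0) +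
      (if 3 ∣ m then 12320 else 0) + (if 5 ∣ m then 88704 else 0) + (if 7 ∣ m then 126720 else 0) +
      (if 11 ∣ m then 80640 else 0) + (if a ∣ m then 41580 else 0) + (if b ∣ m then 55440 else 0) +
      (if c ∣ m then 36960 else 0) := by
    intro m hm
    have h := H27.gcd_card_dvd_card_pow_eq_one G m
    rw [Nat.gcd_eq_left hm, card_roots_eq hT, Finset.sum_filter, hexp, h1, h2, h3, h5, h7, h11, ha,
      hb, hc] at h
    exact h
  have h128 := hroots 128 (by rw [hcard]; norm_num)
  norm_num at h128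
  have hab128 : a ∣ 128 ∧ b ∣ 128 ∧ ¬ c ∣ 128 := by
    by_cases h_a : a ∣ 128 <;> by_cases h_b : b ∣ 128 <;> by_cases h_c : c ∣ 128 <;>
      simp [h_a, h_b, h_c] at h128 ⊢ <;> omega
  obtain ⟨ha128, hb128, hc128⟩ := hab128
  obtain ⟨gc, hgc⟩ := cnt_pos.1 (show 0 < cnt G c by omega)
  have hc0 : c ∣ 443520 := by rw [← hgc, ← hcard]; exact orderOf_dvd_natCard gc
  have hcp' : ∀ p, p = 5 ∨ p = 7 ∨ p = 11 → ¬ p ∣ c := by
    intro p hp hd
    have hc00 : 0 < c := hgc ▸ orderOf_pos gc
    have hz : orderOf (gc ^ (c / p)) = p := by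
      rw [orderOf_pow' gc (Nat.div_pos (Nat.le_of_dvd hc00 hd) (by omega)).ne', hgc,
        Nat.gcd_eq_right (Nat.div_dvd_of_dvd hd), Nat.div_div_self hd hc00.ne']
    have h := Subgroup.orderOf_dvd_natCard (centralizer ({gc ^ (c / p)} : Set G))
      (mem_centralizer_singleton_iff.2 ((Commute.refl gc).pow_right _).eq)
    rw [hcp p hp _ hz, hgc] at h
    rcases hp with rfl | rfl | rfl <;>
      rcases (Nat.dvd_prime (by norm_num)).1 h with e | e <;> omega
  have hc9 : ¬ 9 ∣ c := by
    intro h9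
    have h := hpos (cnt_pos_of_dvd (show 0 < cnt G c by omega) h9)
    rcases hmem.1 h with e | e | e | e | e | e | e | e | e
    all_goals try omega
    · rw [← e] at ha128; norm_num at ha128
    · rw [← e] at hb128; norm_num at hb128
    · have h9' := hroots 9 (by rw [hcard]; norm_num)
      have na9 : ¬ a ∣ 9 := fun h => by
        have := Nat.dvd_gcd h ha128
        norm_num at this; omega
      have nb9 : ¬ b ∣ 9 := fun h => by
        have := Nat.dvd_gcd h hb128
        norm_num at this; omega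
      rw [← e] at h9'
      norm_num [na9, nb9] at h9'
  have hc6 : c = 6 := by
    have h1152 : c ∣ 1152 := by
      refine Nat.Coprime.dvd_of_dvd_mul_right (n := 385) ?_ (by rwa [show 1152 * 385 = 443520 from rfl])
      rw [show (385 : ℕ) = 5 * 7 * 11 by norm_num]
      have hp : ∀ p, p.Prime → ¬ p ∣ c → Nat.Coprime c p := fun p hp h =>
        ((Nat.Prime.coprime_iff_not_dvd hp).2 h).symm
      exact ((hp 5 (by norm_num) (hcp' 5 (by simp))).mul_right
        (hp 7 (by norm_num) (hcp' 7 (by simp)))).mul_right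
          (hp 11 (by norm_num) (hcp' 11 (by simp)))
    have h3c : 3 ∣ c := by
      by_contra h
      have hcop : Nat.Coprime c 9 :=
        (((Nat.Prime.coprime_iff_not_dvd Nat.prime_three).2 h).symm).pow_right 2
      exact hc128 (hcop.dvd_of_dvd_mul_right (show c ∣ 128 * 9 from h1152))
    have h2c : 2 ∣ c := by
      by_contra h
      have hcop : Nat.Coprime c 128 :=
        (((Nat.Prime.coprime_iff_not_dvd Nat.prime_two).2 h).symm).pow_right 7
      have h9 : c ∣ 3 ^ 2 := hcop.dvd_of_dvd_mul_left (show c ∣ 128 * 9 from h1152)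
      obtain ⟨k, hk, rfl⟩ := (Nat.dvd_prime_pow Nat.prime_three).1 h9
      interval_cases k <;> simp_all
    have h6 := hpos (cnt_pos_of_dvd (show 0 < cnt G c by omega)
      (Nat.Coprime.mul_dvd_of_dvd_of_dvd (by norm_num : Nat.Coprime 2 3) h2c h3c))
    rcases hmem.1 h6 with e | e | e | e | e | e | e | e | e
    all_goals try omega
    · rw [← e] at ha128; norm_num at ha128
    · rw [← e] at hb128; norm_num at hb128
  refine ⟨h2, h3, hc6 ▸ hc, ?_, hcp⟩
  intro x w hx hw
  apply pow_eq_one_of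
  have hnot : ∀ p, p = 5 ∨ p = 7 ∨ p = 11 → orderOf w ≠ p := by
    intro p hp e
    have h := Subgroup.orderOf_dvd_natCard (centralizer ({w} : Set G))
      (mem_centralizer_singleton_iff.2 hw.symm.eq)
    rw [hx, hcp p hp w e] at h
    omega
  have hpow : ∀ m, m ∣ 128 → m ≠ 1 → m ≠ 2 → orderOf w ≠ m := by
    intro m hm m1 m2 e
    have hcop : (orderOf w).Coprime (orderOf x) := by
      rw [e, hx]
      exact Nat.Coprime.coprime_dvd_left hm (by norm_num)
    have ho := hw.orderOf_mul_eq_mul_orderOf_of_coprime hcop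
    rw [e, hx] at ho
    have hmT := hT (w * x)
    rw [ho] at hmT
    rcases hmem.1 hmT with e' | e' | e' | e' | e' | e' | e' | e' | e'
    all_goals try omega
    · have : 3 ∣ 128 := (Dvd.intro_left m rfl : 3 ∣ m * 3).trans (e' ▸ ha128)
      norm_num at this
    · have : 3 ∣ 128 := (Dvd.intro_left m rfl : 3 ∣ m * 3).trans (e' ▸ hb128)
      norm_num at this
  rcases hmem.1 (hT w) with e | e | e | e | e | e | e | e | e
  all_goals first
    | exact absurd e (hnot 5 (by simp))
    | exact absurd e (hnot 7 (by simp))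
    | exact absurd e (hnot 11 (by simp))
    | exact absurd e (hpow _ ha128 a1 a2)
    | exact absurd e (hpow _ hb128 b1 b2)
    | (rw [e]; norm_num; done)
    | rw [e, hc6]

/-- The two parts of an element of order six. -/
theorem card_pairs : cnt G 6 =
    Nat.card (Σ x : {g : G // orderOf g = 3}, {t : G // orderOf t = 2 ∧ Commute t x.1}) := by
  haveI : Fact (Nat.Prime 2) := ⟨Nat.prime_two⟩
  have h4 : ∀ {g : G}, orderOf g = 6 → orderOf (g ^ 4) = 3 := fun {g} hg => by
    rw [orderOf_pow' g (by norm_num), hg]; norm_num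
  have h3 : ∀ {g : G}, orderOf g = 6 → orderOf (g ^ 3) = 2 := fun {g} hg => by
    rw [orderOf_pow' g (by norm_num), hg]; norm_num
  have key : ∀ {x t : G}, orderOf x = 3 → orderOf t = 2 → Commute t x →
      orderOf (x * t) = 6 ∧ (x * t) ^ 4 = x ∧ (x * t) ^ 3 = t := by
    intro x t hx ht hc
    have x3 : x ^ 3 = 1 := by rw [← hx]; exact pow_orderOf_eq_one x
    have t2 : t ^ 2 = 1 := by rw [← ht]; exact pow_orderOf_eq_one t
    refine ⟨?_, ?_, ?_⟩
    · rw [hc.symm.orderOf_mul_eq_mul_orderOf_of_coprime (by rw [hx, ht]; norm_num), hx, ht]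
    · rw [hc.symm.mul_pow, show 4 = 2 * 2 from rfl, pow_mul t, t2, one_pow, mul_one,
        show 2 * 2 = 3 + 1 from rfl, pow_succ, x3, one_mul]
    · rw [hc.symm.mul_pow, x3, one_mul, show 3 = 2 + 1 from rfl, pow_succ, t2, one_mul]
  refine Nat.card_congr
    { toFun := fun g => ⟨⟨g.1 ^ 4, h4 g.2⟩, ⟨g.1 ^ 3, h3 g.2, (Commute.refl g.1).pow_pow 3 4⟩⟩
      invFun := fun p => ⟨p.1.1 * p.2.1, (key p.1.2 p.2.2.1 p.2.2.2).1⟩
      left_inv := fun g => Subtype.ext ?_
      right_inv := ?_ }
  · show g.1 ^ 4 * g.1 ^ 3 = g.1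
    rw [← pow_add, ← pow_mod_orderOf, g.2]; exact pow_one _
  · rintro ⟨⟨x, hx⟩, ⟨t, ht, hc⟩⟩
    obtain ⟨-, e4, e3⟩ := key hx ht hc
    refine Sigma.subtype_ext (Subtype.ext ?_) ?_
    · exact e4
    · exact e3

theorem card_cz_three (hcard : Nat.card G = 443520) (h3 : cnt G 3 = 12320)
    (h6 : cnt G 6 = 36960) (six : ∀ x w : G, orderOf x = 3 → Commute w x → w ^ 6 = 1)
    {x : G} (hx : orderOf x = 3) :
    Nat.card (cz x) = 36 ∧ Nat.card {t : G // orderOf t = 2 ∧ Commute t x} = 3 := by
  classical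
  haveI : Fact (Nat.Prime 2) := ⟨Nat.prime_two⟩
  haveI : Fact (Nat.Prime 3) := ⟨Nat.prime_three⟩
  haveI := Fintype.ofFinite G
  have hlow : ∀ y : G, orderOf y = 3 → ∃ k, 2 ≤ k ∧ Nat.card (cz y) = 9 * 2 ^ k ∧
      2 ^ k ≤ Nat.card {t : G // orderOf t = 2 ∧ Commute t y} + 1 := by
    intro y hy
    have h36 : 36 ≤ Nat.card (cz y) := by
      have hle : Nat.card {u : G // IsConj y u} ≤ 12320 := by
        rw [← h3]
        refine Nat.card_le_card_of_injective (fun u => (⟨u.1, ?_⟩ : {g : G // orderOf g = 3})) ?_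
        · obtain ⟨c, hc⟩ := isConj_iff.1 u.2
          rw [← hc, orderOf_conj', hy]
        · intro u v e
          exact Subtype.ext (congrArg (fun w : {g : G // orderOf g = 3} => w.1) e)
      have := card_class_mul y
      rw [hcard] at this
      by_contra hlt
      have := Nat.mul_le_mul hle (show Nat.card (cz y) ≤ 35 by omega)
      omega
    obtain ⟨P, hP⟩ := (isPGroup_zpowers hy).exists_le_sylow
    have h9 : 9 ∣ Nat.card (cz y) := by
      rw [← exists_sylow_nine hcard P]
      exact card_dvd_of_le fun q hq => mem_cz.2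
        (comm_of_card_nine (exists_sylow_nine hcard P) q hq y (hP (mem_zpowers y)))
    obtain ⟨S⟩ : Nonempty (Sylow 2 (cz y)) := inferInstance
    obtain ⟨k, hk⟩ := IsPGroup.iff_card.1 S.2
    have hprimes : ∀ p, p.Prime → p ∣ Nat.card (cz y) → p = 2 ∨ p = 3 := by
      intro p hp hd
      haveI := Fact.mk hp
      obtain ⟨w, hw, hwo⟩ := exists_orderOf p hd
      have h := orderOf_dvd_of_pow_eq_one (six y w hy (mem_cz.1 hw))
      rw [hwo] at h
      have := Nat.le_of_dvd (by norm_num) h
      interval_cases p <;> simp_all (config := { decide := true })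
    have hdvd : Nat.card (cz y) ∣ 443520 := hcard ▸ card_subgroup_dvd_card _
    have h1152 : Nat.card (cz y) ∣ 1152 := by
      refine Nat.Coprime.dvd_of_dvd_mul_right (n := 385) ?_ (by rwa [show 1152 * 385 = 443520 from rfl])
      refine Nat.coprime_of_dvd fun p hp hp1 hp2 => ?_
      rcases hprimes p hp hp1 with rfl | rfl <;> norm_num at hp2
    obtain ⟨m, hm⟩ := h9
    rw [hm] at h1152
    have hm128 : m ∣ 2 ^ 7 := Nat.dvd_of_mul_dvd_mul_left (by norm_num : 0 < 9) h1152
    obtain ⟨j, hj, rfl⟩ := (Nat.dvd_prime_pow Nat.prime_two).1 hm128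
    have hkj : k = j := by
      have e := hk
      rw [Sylow.card_eq_multiplicity, hm, Nat.factorization_mul (by norm_num) (by positivity),
        Nat.prime_two.factorization_pow] at e
      simp [Nat.factorization_eq_zero_of_not_dvd (show ¬ 2 ∣ 9 by norm_num)] at e
      exact e.symm
    subst hkj
    refine ⟨k, ?_, hm, ?_⟩
    · rw [hm] at h36
      by_contra h
      interval_cases k <;> omega
    · rw [← hk, Nat.card_eq_fintype_card, Nat.card_eq_fintype_card (α := {t : G // _}),
        Fintype.card_subtype (fun t : G => orderOf t = 2 ∧ Commute t y)]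
      rw [← Finset.card_univ]
      refine le_trans (Finset.card_le_card_of_injOn (fun s => (s.1.1 : G))
        (t := insert 1 (Finset.univ.filter fun t : G => orderOf t = 2 ∧ Commute t y)) ?_ ?_)
        (Finset.card_insert_le _ _)
      · intro s _
        simp only [Finset.coe_insert, Set.mem_insert_iff, Finset.coe_filter, Finset.mem_univ,
          true_and, Set.mem_ofPred_eq]
        refine or_iff_not_imp_left.2 fun h1 => ⟨orderOf_eq_prime ?_ h1, mem_cz.1 s.1.2⟩
        obtain ⟨i, hi⟩ := IsPGroup.iff_orderOf.1 S.2 s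
        have hd := orderOf_dvd_of_pow_eq_one (six y s.1.1 hy (mem_cz.1 s.1.2))
        rw [Subgroup.orderOf_coe, Subgroup.orderOf_coe, hi] at hd
        apply pow_eq_one_of
        rw [Subgroup.orderOf_coe, Subgroup.orderOf_coe, hi]
        exact (Nat.Coprime.pow_left i (by norm_num)).dvd_of_dvd_mul_right
          (show 2 ^ i ∣ 2 * 3 from hd)
      · intro u _ v _ e
        exact Subtype.ext (Subtype.ext e)
  let f : {g : G // orderOf g = 3} → ℕ := fun y =>
    Nat.card {t : G // orderOf t = 2 ∧ Commute t y.1}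
  have hge : ∀ y ∈ (Finset.univ : Finset {g : G // orderOf g = 3}), 3 ≤ f y := by
    intro y _
    obtain ⟨k, hk, -, hle⟩ := hlow y.1 y.2
    have := Nat.pow_le_pow_right (show 0 < 2 by norm_num) hk
    show 3 ≤ Nat.card {t : G // orderOf t = 2 ∧ Commute t y.1}
    omega
  have hsum : ∑ _y : {g : G // orderOf g = 3}, 3 = ∑ y, f y := by
    rw [Finset.sum_const, Finset.card_univ, ← Nat.card_eq_fintype_card, ← Nat.card_sigma,
      ← card_pairs]
    change cnt G 3 • 3 = _
    rw [h3, h6, smul_eq_mul]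
  have h := (Finset.sum_eq_sum_iff_of_le hge).1 hsum ⟨x, hx⟩ (Finset.mem_univ _)
  refine ⟨?_, h.symm⟩
  obtain ⟨k, hk, hck, hle⟩ := hlow x hx
  change 3 = Nat.card {t : G // orderOf t = 2 ∧ Commute t x} at h
  rw [← h] at hle
  have : k ≤ 2 := (Nat.pow_le_pow_iff_right (by norm_num : 1 < 2)).1 (by simpa using hle)
  rw [hck, show k = 2 by omega]; rfl

end H78.M22R
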