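import Cfsg.Agent.H78.M22R.Loc
import Mathlib.GroupTheory.Subgroup.Centralizer

/-! The sixteen-group and its normaliser in a group with the local data of M22. -/

set_option autoImplicit false

namespace H78.M22R

open Subgroup

/-- The output of the local analysis, used by the count of the seventy-seven points. -/
structure Hex (G : Type*) [Group G] where
  E : Subgroup G
  card_E : Nat.card E = 16
  sq : ∀ e ∈ E, e * e = 1
  self : centralizer (E : Set G) ≤ E
  card_N : Nat.card (normalizer (E : Set G)) = 5760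
  trans : ∀ u ∈ E, ∀ v ∈ E, u ≠ 1 → v ≠ 1 → ∃ n ∈ normalizer (E : Set G), n * u * n⁻¹ = v
  cent : ∀ v ∈ E, v ≠ 1 → centralizer ({v} : Set G) ≤ normalizer (E : Set G)
  noFive : ∀ M ≤ normalizer (E : Set G), Nat.card M ≠ 1152
  noEight : ∀ A ≤ normalizer (E : Set G), A ⊓ E = ⊥ → (∀ a ∈ A, a * a = 1) → Nat.card A ≠ 8
  kill : ∀ K ≤ E, Nat.card K = 4 → ∀ Q ≤ normalizer (E : Set G), Nat.card Q = 9 →
    (∀ q ∈ Q, ∀ k ∈ K, q * k * q⁻¹ ∈ K) → ∀ w : G, w * w = 1 → (∀ k ∈ K, Commute w k) → w ∈ E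

end H78.M22R
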