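import Cfsg.Agent.H78.M22R.PartE
import Cfsg.Agent.H78.M22R.Five
import Cfsg.Agent.H78.M22R.Hex

/-! The local analysis produces the sixteen-group. -/

set_option autoImplicit false
set_option linter.style.haveILetI false

namespace H78.M22R

open Subgroup

variable {G : Type*} [Group G] [Finite G]

namespace Frame

variable (F : Frame G) (L : Loc G) {R : Subgroup G} (hR : F.IsCore R)
  {z : G} (hz : z ∈ F.P) (hzx : z ∉ zpowers F.x) (hzT : four z ≤ F.partT R)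

include L hR hz hzx hzT

theorem T_eq_E : F.partT R = F.grpE z := by
  have h16 := F.card_E L hR hz hzx hzT
  rcases F.card_T L hR with h | h
  · exact (eq_of_le_of_card_ge (F.E_le_T L hR hz hzx hzT) (by rw [h16, h])).symm
  exfalso
  have hTR : F.partT R = R := eq_of_le_of_card_ge inf_le_left (by rw [h, hR.card])
  set M := normalizer (F.grpE z : Set G) ⊓ normalizer (four F.x : Set G) with hM
  have hPM : F.P ≤ M := le_inf (F.P_le_N L hR hz hzx hzT) fun p hp =>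
    mem_normalizer_of fun v hv => L.le_four_norm F.card_P F.x_mem F.x_ne hp hv
  have hC4 : cz F.t ≤ normalizer (four F.x : Set G) := by
    intro g hg
    have hRn : R ≤ normalizer (four F.x : Set G) := fun r hr =>
      centralizer_le_normalizer _ (mem_inf.1 (hTR.ge hr)).2
    have hxn : zpowers F.x ≤ normalizer (four F.x : Set G) := zpowers_le.2
      (mem_normalizer_of fun v hv => L.le_four_norm F.card_P F.x_mem F.x_ne F.x_mem hv)
    rcases F.cases_τ L hR hg with h' | h'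
    · obtain ⟨⟨r, hr, w, hw, rfl⟩, -⟩ := F.mem_of_comm L hR hg h'
      exact mul_mem (hRn hr) (hxn hw)
    · obtain ⟨⟨r, hr, w, hw, e⟩, -⟩ := F.mem_of_comm L hR (mul_mem hg (F.τ_memC L)) h'
      have h2 : g * F.τ ∈ normalizer (four F.x : Set G) := e ▸ mul_mem (hRn hr) (hxn hw)
      exact (Subgroup.mul_mem_cancel_right _ (mem_normalizer_of fun v hv => F.τ_four L hv)).1 h2
  have hCM : cz F.t ≤ M := le_inf (F.C_le_N L hR hz hzx hzT) hC4
  have hO : Nat.card {v : G // ∃ n ∈ M, n * F.t * n⁻¹ = v} = 3 := by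
    rw [← F.four_nonone L hR hz hzx hzT]
    exact Nat.card_congr (Equiv.subtypeEquivRight fun v =>
      ⟨fun ⟨n, hn, e⟩ => e ▸ ⟨(mem_normalizer_iff.1 (mem_inf.1 hn).2 F.t).1 F.t_mem,
          fun e' => F.t_ne (conj_eq_one_iff.1 e')⟩,
        fun hv => F.four_orbit L hR hz hzx hzT hPM hv.1 hv.2⟩)
  have hc := card_conj_orbit M F.t
  rw [hO, inf_eq_right.2 hCM, F.cardC L] at hc
  exact L.no_five (F.card_N L hR hz hzx hzT).1 inf_le_left hc.symm

theorem no_eight {A : Subgroup G} (hA : A ≤ normalizer (F.grpE z : Set G))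
    (hAE : A ⊓ F.grpE z = ⊥) (hsq : ∀ a ∈ A, a * a = 1) : Nat.card A ≠ 8 := by
  intro hc
  haveI : Fact (Nat.Prime 2) := ⟨Nat.prime_two⟩
  set E := F.grpE z with hE
  set N := normalizer (E : Set G) with hN
  have hcN := (F.card_N L hR hz hzx hzT).1
  have h16 := F.card_E L hR hz hzx hzT
  have hC := F.C_le_N L hR hz hzx hzT
  have hS1 : Nat.card (E ⊔ A : Subgroup G) = 128 := by
    rw [card_sup_eq hA (by rwa [inf_comm]), h16, hc]
  have hS1N : E ⊔ A ≤ N := sup_le le_normalizer hA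
  have hτR : F.τ ∉ R := by
    intro h
    have e : F.x * F.x = F.x * F.τ * F.x⁻¹ * F.τ⁻¹ := by
      calc F.x * F.x = F.x * (F.τ * F.x⁻¹ * F.τ⁻¹) := by
            rw [F.τ_inv _ (inv_mem F.x_mem), inv_inv]
        _ = F.x * F.τ * F.x⁻¹ * F.τ⁻¹ := by group
    have h2 : F.x * F.x ∈ R := e ▸ mul_mem (F.x_norm L hR h) (inv_mem h)
    have h' := Subgroup.orderOf_dvd_natCard R h2
    rw [← pow_two, orderOf_pow' _ (by norm_num), F.hx L, hR.card] at h'
    norm_num at h'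
  have hτ1 : F.τ ≠ 1 := fun e => hτR (e ▸ one_mem R)
  have hτo : orderOf F.τ = 2 := orderOf_eq_prime (by rw [pow_two, F.τ_sq L]) hτ1
  have hτn : zpowers F.τ ≤ normalizer (R : Set G) :=
    zpowers_le.2 (mem_normalizer_of fun r hr => hR.norm _ (F.τ_memC L) r hr)
  have hdis : R ⊓ zpowers F.τ = ⊥ := by
    refine (eq_bot_iff_forall _).2 fun w hw => ?_
    obtain ⟨n, rfl⟩ := mem_zpowers_iff.1 (mem_inf.1 hw).2
    have hw' := (mem_inf.1 hw).1
    rw [← zpow_mod_orderOf, hτo] at hw' ⊢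
    rcases Int.emod_two_eq_zero_or_one n with e | e <;> rw [Nat.cast_ofNat, e] at hw' ⊢
    · exact zpow_zero _
    · rw [zpow_one] at hw'; exact absurd hw' hτR
  have hS0 : Nat.card (R ⊔ zpowers F.τ : Subgroup G) = 128 := by
    rw [card_sup_eq hτn hdis, hR.card, Nat.card_zpowers, hτo]
  have hS0N : R ⊔ zpowers F.τ ≤ N := sup_le (hR.le.trans hC) (zpowers_le.2 (hC (F.τ_memC L)))
  have hfac : (Nat.card N).factorization 2 = 7 := by
    rw [hcN, show (5760 : ℕ) = 2 ^ 7 * 45 by norm_num, Nat.factorization_mul (by norm_num)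
      (by norm_num), Nat.prime_two.factorization_pow]
    simp [Nat.factorization_eq_zero_of_not_dvd (show ¬ 2 ∣ 45 by norm_num)]
  let S1 : Sylow 2 N := Sylow.ofCard ((E ⊔ A).subgroupOf N)
    (by rw [Nat.card_congr (subgroupOfEquivOfLe hS1N).toEquiv, hS1, hfac]; rfl)
  let S0 : Sylow 2 N := Sylow.ofCard ((R ⊔ zpowers F.τ).subgroupOf N)
    (by rw [Nat.card_congr (subgroupOfEquivOfLe hS0N).toEquiv, hS0, hfac]; rfl)
  obtain ⟨n, hn⟩ := MulAction.exists_smul_eq N S1 S0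
  have hback : ∀ g ∈ R ⊔ zpowers F.τ, (n : G)⁻¹ * g * n ∈ E ⊔ A := by
    intro g hg
    have h1 : (⟨g, hS0N hg⟩ : N) ∈ ((n • S1 : Sylow 2 N) : Subgroup N) := by
      rw [hn]; exact mem_subgroupOf.2 hg
    rw [Sylow.coe_subgroup_smul] at h1
    obtain ⟨s, hs, e⟩ := h1
    have e' : (n : G) * s * (n : G)⁻¹ = g := congrArg Subtype.val e
    rw [← e', show (n : G)⁻¹ * ((n : G) * s * (n : G)⁻¹) * n = s by group]
    exact mem_subgroupOf.1 hs
  have hconj : ∀ g ∈ N, ∀ e ∈ E, g * e * g⁻¹ ∈ E := fun g hg e he =>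
    (mem_normalizer_iff.1 hg e).1 he
  have hcommA : ∀ a ∈ A, ∀ b ∈ A, Commute a b := by
    intro a ha b hb
    have h := hsq _ (mul_mem ha hb)
    have e := mul_eq_one_iff_eq_inv.1 h
    rwa [mul_inv_rev, inv_eq_of_mul_eq_one_left (hsq a ha),
      inv_eq_of_mul_eq_one_left (hsq b hb)] at e
  have habel : ∀ a ∈ E ⊔ A, ∀ b ∈ E ⊔ A, a * b * a⁻¹ * b⁻¹ ∈ E := by
    intro a ha b hb
    have ha' : a ∈ ((E ⊔ A : Subgroup G) : Set G) := ha
    have hb' : b ∈ ((E ⊔ A : Subgroup G) : Set G) := hb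
    rw [coe_mul_of_right_le_normalizer_left _ _ hA] at ha' hb'
    obtain ⟨e, he, u, hu, rfl⟩ := ha'
    obtain ⟨f, hf, v, hv, rfl⟩ := hb'
    have hid : e * u * (f * v) * (e * u)⁻¹ * (f * v)⁻¹ =
        e * (u * f * u⁻¹) * (v * e⁻¹ * v⁻¹) * f⁻¹ := by
      calc e * u * (f * v) * (e * u)⁻¹ * (f * v)⁻¹
          = e * (u * f * u⁻¹) * ((u * v) * u⁻¹) * e⁻¹ * v⁻¹ * f⁻¹ := by group
        _ = _ := by rw [(hcommA u hu v hv).eq]; group
    show e * u * (f * v) * (e * u)⁻¹ * (f * v)⁻¹ ∈ E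
    rw [hid]
    exact mul_mem (mul_mem (mul_mem he (hconj u (hA hu) f hf))
      (hconj v (hA hv) _ (inv_mem he))) (inv_mem hf)
  have hτr : ∀ r ∈ R, F.τ * r * F.τ⁻¹ * r⁻¹ ∈ E := by
    intro r hr
    have h := habel _ (hback F.τ (le_sup_right (a := R) (mem_zpowers _))) _
      (hback r (le_sup_left (b := zpowers F.τ) hr))
    have h' := hconj n n.2 _ h
    convert h' using 1
    group
  have hxN : F.x ∈ N := F.P_le_N L hR hz hzx hzT F.x_mem
  have hRE : R ≤ E := by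
    intro r hr
    have h1 := hτr r hr
    have h2 := hτr _ (F.x_norm L hR hr)
    -- the two congruences make `x ^ 2` centralise `r` modulo `E`
    have e1 : F.τ * (F.x * r * F.x⁻¹) * F.τ⁻¹ = F.x⁻¹ * (F.τ * r * F.τ⁻¹) * F.x := by
      calc F.τ * (F.x * r * F.x⁻¹) * F.τ⁻¹
          = (F.τ * F.x * F.τ⁻¹) * (F.τ * r * F.τ⁻¹) * (F.τ * F.x * F.τ⁻¹)⁻¹ := by group
        _ = F.x⁻¹ * (F.τ * r * F.τ⁻¹) * F.x := by rw [F.τ_inv _ F.x_mem, inv_inv]
    rw [e1] at h2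
    have h3 : F.x⁻¹ * r * F.x * (F.x * r⁻¹ * F.x⁻¹) ∈ E := by
      have e2 : F.x⁻¹ * r * F.x * (F.x * r⁻¹ * F.x⁻¹) = (F.x⁻¹ * (F.τ * r * F.τ⁻¹ * r⁻¹) * F.x)⁻¹ *
          (F.x⁻¹ * (F.τ * r * F.τ⁻¹) * F.x * (F.x * r * F.x⁻¹)⁻¹) := by group
      rw [e2]
      refine mul_mem (inv_mem ?_) h2
      have h := hconj _ (inv_mem hxN) _ h1
      rwa [inv_inv] at h
    have hx3 : F.x * F.x = F.x⁻¹ := eq_inv_of_mul_eq_one_left (by
      rw [← L.cube F.card_P F.x_mem, pow_succ, pow_two])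
    have h4 : r⁻¹ * (F.x * r * F.x⁻¹) ∈ E := by
      have h5 := hconj _ hxN _ (hconj _ hxN _ h3)
      have e3 : F.x * (F.x * (F.x⁻¹ * r * F.x * (F.x * r⁻¹ * F.x⁻¹)) * F.x⁻¹) * F.x⁻¹ =
          F.x * r * F.x⁻¹ * ((F.x * F.x * F.x) * r⁻¹ * (F.x * F.x * F.x)⁻¹) := by group
      rw [e3, show F.x * F.x * F.x = 1 by rw [hx3, inv_mul_cancel], one_mul, inv_one, mul_one] at h5
      have h6 := hconj _ (inv_mem (hC (hR.le hr))) _ h5
      convert h6 using 1
      group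
    have h3' : ¬ 3 ∣ Nat.card E := by rw [h16]; norm_num
    obtain ⟨a, ha, hca⟩ := fix_coset (F.hx L)
      (fun e he => F.P_norm_E L hR hz hzx hzT F.x_mem he) h4 h3'
    have h := le_sup_left (b := four z)
      (F.fix_mem_four L hR (mul_mem hr (F.E_le_R L hR hz hzx hzT ha)) hca)
    exact (Subgroup.mul_mem_cancel_right _ ha).1 h
  have h := card_dvd_of_le hRE
  rw [hR.card, h16] at h
  norm_num at h

theorem kill_four {K : Subgroup G} (hK : K ≤ F.grpE z) (hK4 : Nat.card K = 4) {Q : Subgroup G}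
    (hQ : Q ≤ normalizer (F.grpE z : Set G)) (hQ9 : Nat.card Q = 9)
    (hQK : ∀ q ∈ Q, ∀ k ∈ K, q * k * q⁻¹ ∈ K) {w : G} (hw : w * w = 1)
    (hwK : ∀ k ∈ K, Commute w k) : w ∈ F.grpE z := by
  haveI : Fact (Nat.Prime 3) := ⟨Nat.prime_three⟩
  set N := normalizer (F.grpE z : Set G) with hN
  have hPN := F.P_le_N L hR hz hzx hzT
  have hfac : (Nat.card N).factorization 3 = 2 := by
    rw [(F.card_N L hR hz hzx hzT).1, show (5760 : ℕ) = 3 ^ 2 * 640 by norm_num,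
      Nat.factorization_mul (by norm_num) (by norm_num), Nat.prime_three.factorization_pow]
    simp [Nat.factorization_eq_zero_of_not_dvd (show ¬ 3 ∣ 640 by norm_num)]
  let SQ : Sylow 3 N := Sylow.ofCard (Q.subgroupOf N)
    (by rw [Nat.card_congr (subgroupOfEquivOfLe hQ).toEquiv, hQ9, hfac]; rfl)
  let SP : Sylow 3 N := Sylow.ofCard (F.P.subgroupOf N)
    (by rw [Nat.card_congr (subgroupOfEquivOfLe hPN).toEquiv, F.card_P, hfac]; rfl)
  obtain ⟨n, hn⟩ := MulAction.exists_smul_eq N SQ SP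
  have hback : ∀ p ∈ F.P, (n : G)⁻¹ * p * n ∈ Q := by
    intro g hg
    have h1 : (⟨g, hPN hg⟩ : N) ∈ ((n • SQ : Sylow 3 N) : Subgroup N) := by
      rw [hn]; exact mem_subgroupOf.2 hg
    rw [Sylow.coe_subgroup_smul] at h1
    obtain ⟨s, hs, e⟩ := h1
    have e' : (n : G) * s * (n : G)⁻¹ = g := congrArg Subtype.val e
    rw [← e', show (n : G)⁻¹ * ((n : G) * s * (n : G)⁻¹) * n = s by group]
    exact mem_subgroupOf.1 hs
  let K' := K.map (MulAut.conj (n : G)).toMonoidHom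
  have hmem : ∀ {a : G}, a ∈ K' ↔ (n : G)⁻¹ * a * n ∈ K := fun {a} =>
    ⟨by rintro ⟨r, hr, rfl⟩; simpa [MulAut.conj_apply, mul_assoc] using hr,
     fun h => ⟨_, h, by simp [MulAut.conj_apply, mul_assoc]⟩⟩
  have hK'c : Nat.card K' = 4 :=
    (Nat.card_congr (K.equivMapOfInjective _ (MulAut.conj (n : G)).injective).toEquiv).symm.trans hK4
  have hK'E : K' ≤ F.grpE z := by
    rintro _ ⟨k, hk, rfl⟩
    exact (mem_normalizer_iff.1 n.2 k).1 (hK hk)
  have hK'2 : ∀ a ∈ K', ∃ k, a ^ (2 ^ k) = 1 := fun a ha =>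
    ⟨1, by rw [pow_one, pow_two]; exact F.E_sq L hR hz hzx hzT (hK'E ha)⟩
  have hK'P : ∀ p ∈ F.P, ∀ a ∈ K', p * a * p⁻¹ ∈ K' := fun p hp a ha => by
    rw [hmem] at ha ⊢
    have h := hQK _ (hback p hp) _ ha
    rwa [show (n : G)⁻¹ * p * n * ((n : G)⁻¹ * a * n) * ((n : G)⁻¹ * p * n)⁻¹ =
      (n : G)⁻¹ * (p * a * p⁻¹) * n by group] at h
  have hcount := L.four_count F.card_P hK'2 hK'P
  rw [hK'c] at hcount
  obtain ⟨q, hq, hq1, hqK⟩ : ∃ q ∈ F.P, q ≠ 1 ∧ four q ≤ K' := by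
    by_contra! hno
    haveI : IsEmpty {q : G // q ∈ F.P ∧ q ≠ 1 ∧ four q ≤ K'} :=
      ⟨fun q => hno q.1 q.2.1 q.2.2.1 q.2.2.2⟩
    rw [Nat.card_of_isEmpty] at hcount
    norm_num at hcount
  have hq3 := L.order_three F.card_P hq hq1
  have hKq : four q = K' := eq_of_le_of_card_ge hqK (by rw [hK'c, L.card_four hq3])
  obtain ⟨g, hg, hgx⟩ := L.fusion F.card_P F.x_mem F.x_ne hq hq1
  have hdown : ∀ a : G, (∀ v ∈ four q, Commute a v) → a * a = 1 → g⁻¹ * a * g ∈ F.grpE z := by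
    intro a ha ha2
    rw [← F.T_eq_E L hR hz hzx hzT]
    refine F.two_mem_T L hR (mem_centralizer_iff.2 fun v hv => ?_) ⟨1, ?_⟩
    · have hv' : g * v * g⁻¹ ∈ four q := hgx ▸ L.four_conj (g := g) (F.hx L) hv
      calc v * (g⁻¹ * a * g) = g⁻¹ * ((g * v * g⁻¹) * a) * g := by group
        _ = g⁻¹ * (a * (g * v * g⁻¹)) * g := by rw [(ha _ hv').symm.eq]
        _ = g⁻¹ * a * g * v := by group
    · rw [pow_one, pow_two, show g⁻¹ * a * g * (g⁻¹ * a * g) = g⁻¹ * (a * a) * g by group, ha2]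
      group
  have hgN : g⁻¹ ∈ N := mem_normalizer_of fun e he => by
    rw [inv_inv]
    exact hdown e (fun v hv => F.E_comm L hR hz hzx hzT he (hK'E (hKq ▸ hv)))
      (F.E_sq L hR hz hzx hzT he)
  have hw' := hdown ((n : G) * w * (n : G)⁻¹) (fun v hv => by
      rw [hKq, hmem] at hv
      have h := (commute_conj_iff (n : G) _ _).2 (hwK _ hv)
      rwa [show (n : G) * ((n : G)⁻¹ * v * n) * (n : G)⁻¹ = v by group] at h)
    (by rw [show (n : G) * w * (n : G)⁻¹ * ((n : G) * w * (n : G)⁻¹) = n * (w * w) * (n : G)⁻¹ by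
      group, hw]; group)
  have h2 := (mem_normalizer_iff.1 ((inv_mem_iff).1 hgN) _).1 hw'
  rw [show g * (g⁻¹ * ((n : G) * w * (n : G)⁻¹) * g) * g⁻¹ = (n : G) * w * (n : G)⁻¹ by group] at h2
  exact (mem_normalizer_iff.1 n.2 w).2 h2

end Frame

theorem Loc.exists_hex (L : Loc G) : Nonempty (Hex G) := by
  haveI : Fact (Nat.Prime 3) := ⟨Nat.prime_three⟩
  obtain ⟨P, hP⟩ := Sylow.exists_subgroup_card_pow_prime (G := G) 3 (n := 2)
    (by rw [L.card]; norm_num)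
  have hP9 : Nat.card P = 9 := by rw [hP]; rfl
  obtain ⟨x, hx, h1⟩ : ∃ x ∈ P, x ≠ 1 := by
    by_contra! h
    rw [(eq_bot_iff_forall P).2 h, card_bot] at hP9
    omega
  have h3 := L.order_three hP9 hx h1
  obtain ⟨y, hy, hyx⟩ := exists_off hP9 h3
  obtain ⟨t, ht, ht1⟩ : ∃ t ∈ four x, t ≠ 1 := by
    by_contra! h
    have hc := L.card_four h3
    rw [(eq_bot_iff_forall (four x)).2 h, card_bot] at hc
    omega
  obtain ⟨τ, hτ, hτt⟩ := L.exists_inverter hP9 hx h1 ht ht1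
  let F : Frame G := ⟨P, x, y, t, τ, hP9, hx, h1, hy, hyx, ht, ht1, hτ, hτt⟩
  obtain ⟨R, hR⟩ := F.exists_core L
  obtain ⟨z, hz, hzx, hzT⟩ := F.exists_line L hR
  obtain ⟨hcN, htr⟩ := F.card_N L hR hz hzx hzT
  refine ⟨⟨F.grpE z, F.card_E L hR hz hzx hzT, fun e he => F.E_sq L hR hz hzx hzT he,
    F.centralizer_E L hR hz hzx hzT, hcN, ?_, ?_, fun M hM h => L.no_five hcN hM h,
    fun A hA hAE hsq => F.no_eight L hR hz hzx hzT hA hAE hsq,
    fun K hK hK4 Q hQ hQ9 hQK w hw hwK => F.kill_four L hR hz hzx hzT hK hK4 hQ hQ9 hQK hw hwK⟩⟩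
  · intro u hu v hv hu1 hv1
    obtain ⟨a, ha, rfl⟩ := htr u hu hu1
    obtain ⟨b, hb, rfl⟩ := htr v hv hv1
    exact ⟨b * a⁻¹, mul_mem hb (inv_mem ha), by group⟩
  · intro v hv hv1 g hg
    obtain ⟨a, ha, rfl⟩ := htr v hv hv1
    have hC := F.C_le_N L hR hz hzx hzT (show a⁻¹ * g * a ∈ cz F.t from mem_cz.2 (by
      rw [← commute_conj_iff a, show a * (a⁻¹ * g * a) * a⁻¹ = g by group]
      exact mem_centralizer_singleton_iff.1 hg))
    have := mul_mem (mul_mem ha hC) (inv_mem ha)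
    rwa [show a * (a⁻¹ * g * a) * a⁻¹ = g by group] at this

end H78.M22R
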