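import Cfsg.Agent.H78.M22R.FromNse

/-! The centraliser of an involution, and the local data, from the counts. -/

set_option autoImplicit false
set_option linter.style.haveILetI false

namespace H78.M22R

open Subgroup

variable {G : Type*} [Group G] [Finite G]

/-- Data on elements of order three used to bound the centraliser of an involution. -/
structure ThreeData (G : Type*) [Group G] : Prop where
  cent : ∀ x : G, orderOf x = 3 → Nat.card (cz x) = 36
  inv : ∀ x : G, orderOf x = 3 → Nat.card {t : G // orderOf t = 2 ∧ Commute t x} = 3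
  six : ∀ x w : G, orderOf x = 3 → Commute w x → w ^ 6 = 1
  card : Nat.card G = 443520

namespace ThreeData

variable (D : ThreeData G)
include D

theorem order_three {P : Subgroup G} (hP : Nat.card P = 9) {p : G} (hp : p ∈ P) (h1 : p ≠ 1) :
    orderOf p = 3 := by
  have h9 : orderOf p ∣ 9 := hP ▸ Subgroup.orderOf_dvd_natCard P hp
  obtain ⟨k, hk, hk'⟩ := (Nat.dvd_prime_pow Nat.prime_three).1 (show orderOf p ∣ 3 ^ 2 from h9)
  interval_cases k
  · exact absurd (orderOf_eq_one_iff.1 (by simpa using hk')) h1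
  · simpa using hk'
  · exfalso
    have h3 : orderOf (p ^ 3) = 3 := by rw [orderOf_pow' p (by norm_num), hk']; norm_num
    have h6 := orderOf_dvd_of_pow_eq_one (D.six _ p h3 ((Commute.refl p).pow_right 3))
    rw [hk'] at h6; norm_num at h6

/-- The centraliser of an element of a Sylow subgroup centralising an involution normalises it. -/
theorem cz_le_normalizer {P : Subgroup G} (hP : Nat.card P = 9) {t : G} (ht : orderOf t = 2)
    (hPt : P ≤ cz t) {x : G} (hx : x ∈ P) (h1 : x ≠ 1) : cz x ≤ normalizer (P : Set G) := by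
  classical
  haveI := Fintype.ofFinite G
  haveI : Fact (Nat.Prime 2) := ⟨Nat.prime_two⟩
  have h3 := D.order_three hP hx h1
  have hcP : ∀ a ∈ P, ∀ b ∈ P, Commute a b := comm_of_card_nine hP
  set I := Finset.univ.filter fun v : G => orderOf v = 2 ∧ Commute v x with hI
  have hIc : I.card = 3 := by
    rw [hI, ← Fintype.card_subtype, ← Nat.card_eq_fintype_card]; exact D.inv x h3
  have htI : t ∈ I := by
    simp only [hI, Finset.mem_filter, Finset.mem_univ, true_and]
    exact ⟨ht, (mem_cz.1 (hPt hx)).symm⟩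
  obtain ⟨v1, v2, hne, hrest⟩ := Finset.card_eq_two.1
    (show (I.erase t).card = 2 by rw [Finset.card_erase_of_mem htI, hIc])
  have hfix : ∀ v ∈ I, ∀ p ∈ P, Commute p v := by
    intro v hv p hp
    by_cases hvt : v = t
    · exact hvt ▸ mem_cz.1 (hPt hp)
    have hmove : ∀ q ∈ P, ∀ u ∈ I.erase t, q * u * q⁻¹ ∈ I.erase t := by
      intro q hq u hu
      rw [Finset.mem_erase] at hu ⊢
      simp only [hI, Finset.mem_filter, Finset.mem_univ, true_and] at hu ⊢
      refine ⟨fun e => hu.1 ?_, by rw [orderOf_conj']; exact hu.2.1,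
        ((hcP q hq x hx).mul_left hu.2.2).mul_left (hcP q hq x hx).inv_left⟩
      calc u = q⁻¹ * (q * u * q⁻¹) * q := by group
        _ = q⁻¹ * (t * q) := by rw [e, mul_assoc]
        _ = q⁻¹ * (q * t) := by rw [(mem_cz.1 (hPt hq)).eq]
        _ = t := by group
    have hv' : v ∈ I.erase t := Finset.mem_erase.2 ⟨hvt, hv⟩
    have m1 := hmove p hp v hv'
    have m2 := hmove p hp _ m1
    have hsq : p * (p * v * p⁻¹) * p⁻¹ = v → Commute p v := by
      intro e
      have hc : Commute (p ^ 2) v := mul_inv_eq_iff_eq_mul.1 (by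
        rw [pow_two]
        calc p * p * v * (p * p)⁻¹ = p * (p * v * p⁻¹) * p⁻¹ := by group
          _ = v := e)
      have e' : p = (p ^ 2) ^ 2 := by
        have h33 : p ^ 3 = 1 := by
          by_cases hp1 : p = 1
          · simp [hp1]
          · exact pow_eq_one_of (by rw [D.order_three hP hp hp1])
        rw [← pow_mul, show 2 * 2 = 3 + 1 from rfl, pow_succ, h33, one_mul]
      rw [e']; exact hc.pow_left 2
    rw [hrest, Finset.mem_insert, Finset.mem_singleton] at hv' m1 m2
    by_cases hfx : p * v * p⁻¹ = v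
    · exact mul_inv_eq_iff_eq_mul.1 hfx
    refine hsq ?_
    have hne2 : p * (p * v * p⁻¹) * p⁻¹ ≠ p * v * p⁻¹ := fun e =>
      hfx (mul_left_cancel (mul_right_cancel e))
    rcases hv' with e0 | e0 <;> rcases m1 with e1 | e1 <;> rcases m2 with e2 | e2
    all_goals first
      | exact e2.trans e0.symm
      | exact absurd (e1.trans e0.symm) hfx
      | exact absurd (e2.trans e1.symm) hne2
  obtain ⟨S⟩ : Nonempty (Sylow 2 (cz x)) := inferInstance
  have hS : Nat.card (S : Subgroup (cz x)) = 4 := by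
    rw [Sylow.card_eq_multiplicity, D.cent x h3,
      show (36 : ℕ) = 2 ^ 2 * 9 by norm_num, Nat.factorization_mul (by norm_num) (by norm_num),
      Nat.prime_two.factorization_pow]
    simp [Nat.factorization_eq_zero_of_not_dvd (show ¬ 2 ∣ 9 by norm_num)]
  set M := cz x ⊓ normalizer (P : Set G) with hM
  have h4 : 4 ∣ Nat.card M := by
    rw [← hS, ← Nat.card_congr ((S : Subgroup (cz x)).equivMapOfInjective _
      (cz x).subtype_injective).toEquiv.symm]
    refine card_dvd_of_le ?_
    rintro _ ⟨s, hs, rfl⟩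
    refine mem_inf.2 ⟨s.2, centralizer_le_normalizer _ (mem_centralizer_iff.2 fun p hp => ?_)⟩
    show p * (s : G) = (s : G) * p
    by_cases hs1 : (s : G) = 1
    · simp [hs1]
    refine (hfix _ ?_ p hp).eq
    simp only [hI, Finset.mem_filter, Finset.mem_univ, true_and]
    refine ⟨orderOf_eq_prime ?_ hs1, mem_cz.1 s.2⟩
    obtain ⟨i, hi⟩ := IsPGroup.iff_orderOf.1 S.2 ⟨s, hs⟩
    have hd := orderOf_dvd_of_pow_eq_one (D.six x s.1 h3 (mem_cz.1 s.2))
    have hso : orderOf (s : G) = 2 ^ i := by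
      rw [← hi, ← Subgroup.orderOf_coe (⟨s, hs⟩ : (S : Subgroup (cz x))), ← Subgroup.orderOf_coe s]
    rw [hso] at hd
    apply pow_eq_one_of
    rw [hso]
    exact (Nat.Coprime.pow_left i (by norm_num)).dvd_of_dvd_mul_right (show 2 ^ i ∣ 2 * 3 from hd)
  have h9 : 9 ∣ Nat.card M := by
    rw [← hP]
    exact card_dvd_of_le (le_inf (fun p hp => mem_cz.2 (hcP p hp x hx)) le_normalizer)
  have hMc : M = cz x := eq_of_le_of_card_ge inf_le_left (by
    rw [D.cent x h3]
    exact Nat.le_of_dvd Nat.card_pos (Nat.Coprime.mul_dvd_of_dvd_of_dvd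
      (show Nat.Coprime 4 9 by norm_num) h4 h9))
  exact hMc ▸ inf_le_right

theorem ti {P Q : Subgroup G} (hP : Nat.card P = 9) (hQ : Nat.card Q = 9) {t : G}
    (ht : orderOf t = 2) (hPt : P ≤ cz t) {z : G} (hzP : z ∈ P) (hzQ : z ∈ Q) (h1 : z ≠ 1) :
    Q ≤ P := by
  haveI : Fact (Nat.Prime 3) := ⟨Nat.prime_three⟩
  intro q hq
  have hn : q ∈ normalizer (P : Set G) :=
    D.cz_le_normalizer hP ht hPt hzP h1 (mem_cz.2 (comm_of_card_nine hQ q hq z hzQ))
  by_contra hqP
  have ho := D.order_three hQ hq (fun e => hqP (e ▸ one_mem P))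
  have hd : P ⊓ zpowers q = ⊥ := by
    refine (eq_bot_iff_forall _).2 fun w hw => ?_
    rcases mem_zpowers_three ho (mem_inf.1 hw).2 with h | h | h
    · exact h
    · exact absurd (h ▸ (mem_inf.1 hw).1) hqP
    · exact absurd (inv_mem_iff.1 (h ▸ (mem_inf.1 hw).1)) hqP
  have h27 := card_sup_eq (zpowers_le.2 hn) hd
  rw [hP, Nat.card_zpowers, ho] at h27
  have := card_subgroup_dvd_card (P ⊔ zpowers q)
  rw [h27, D.card] at this
  norm_num at this

/-- No involution has a centraliser of order 1152. -/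
theorem not_1152 (h6 : cnt G 6 = 36960) {t : G} (ht : orderOf t = 2)
    (hc : Nat.card (cz t) = 1152) : False := by
  classical
  haveI : Fact (Nat.Prime 3) := ⟨Nat.prime_three⟩
  haveI := Fintype.ofFinite G
  haveI : Fintype (Sylow 3 (cz t)) := Fintype.ofFinite _
  let toG : Sylow 3 (cz t) → Subgroup G := fun Q => (Q : Subgroup (cz t)).map (cz t).subtype
  have hQ9 : ∀ Q, Nat.card (toG Q) = 9 := fun Q => by
    rw [← Nat.card_congr ((Q : Subgroup (cz t)).equivMapOfInjective _
      (cz t).subtype_injective).toEquiv, Sylow.card_eq_multiplicity, hc,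
      show (1152 : ℕ) = 3 ^ 2 * 128 by norm_num, Nat.factorization_mul (by norm_num) (by norm_num),
      Nat.prime_three.factorization_pow]
    simp [Nat.factorization_eq_zero_of_not_dvd (show ¬ 3 ∣ 128 by norm_num)]
  have hQt : ∀ Q, toG Q ≤ cz t := fun Q => by rintro _ ⟨q, -, rfl⟩; exact q.2
  have hinj : ∀ Q Q', toG Q ≤ toG Q' → Q = Q' := fun Q Q' h =>
    Sylow.ext (map_injective (cz t).subtype_injective
      (eq_of_le_of_card_ge h (by rw [hQ9, hQ9])))
  obtain ⟨P⟩ : Nonempty (Sylow 3 (cz t)) := inferInstance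
  -- the elements of order three commuting with conjugates of `t`
  let TC : G → Type _ := fun s => {x : G // orderOf x = 3 ∧ Commute s x}
  have h8 : ∀ Q, Nat.card {x : G // x ∈ toG Q ∧ x ≠ 1} = 8 := fun Q => by
    rw [Nat.card_eq_fintype_card, Fintype.card_subtype]
    have e : (Finset.univ.filter fun v : G => v ∈ toG Q ∧ v ≠ 1) =
        (Finset.univ.filter fun v : G => v ∈ toG Q).erase 1 := by ext v; simp [and_comm]
    rw [e, Finset.card_erase_of_mem (by simp [one_mem]), ← Fintype.card_subtype,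
      ← Nat.card_eq_fintype_card, hQ9]
  have hlow : Nat.card (Sylow 3 (cz t)) * 8 ≤ Nat.card (TC t) := by
    let f : (Σ Q : Sylow 3 (cz t), {x : G // x ∈ toG Q ∧ x ≠ 1}) → TC t := fun a =>
      ⟨a.2.1, D.order_three (hQ9 a.1) a.2.2.1 a.2.2.2, (mem_cz.1 (hQt a.1 a.2.2.1)).symm⟩
    have hf : Function.Injective f := by
      rintro ⟨Q, q, hq, hq1⟩ ⟨Q', q', hq', hq1'⟩ e
      have e' : q = q' := congrArg (fun u : TC t => u.1) e
      subst e'
      obtain rfl := hinj Q' Q (D.ti (hQ9 Q) (hQ9 Q') ht (hQt Q) hq hq' hq1)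
      rfl
    have h := Nat.card_le_card_of_injective f hf
    rw [Nat.card_sigma, Finset.sum_congr rfl (fun Q _ => h8 Q), Finset.sum_const, smul_eq_mul,
      Finset.card_univ, ← Nat.card_eq_fintype_card] at h
    exact h
  have hup : 385 * Nat.card (TC t) ≤ 36960 := by
    have hK : Nat.card {s : G // IsConj t s} = 385 := by
      have h := card_class_mul t
      rw [hc, D.card] at h; omega
    haveI : Fintype {s : G // IsConj t s} := Fintype.ofFinite _
    have hsame : ∀ s : {s : G // IsConj t s}, Nat.card (TC s.1) = Nat.card (TC t) := by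
      rintro ⟨s, hs⟩
      obtain ⟨g, rfl⟩ := isConj_iff.1 hs
      refine (Nat.card_congr ((MulAut.conj g).toEquiv.subtypeEquiv fun x => ?_)).symm
      simp only [MulEquiv.toEquiv_eq_coe, MulEquiv.coe_toEquiv, MulAut.conj_apply, orderOf_conj',
        commute_conj_iff]
    let f : (Σ s : {s : G // IsConj t s}, TC s.1) →
        (Σ x : {g : G // orderOf g = 3}, {u : G // orderOf u = 2 ∧ Commute u x.1}) := fun a =>
      ⟨⟨a.2.1, a.2.2.1⟩, ⟨a.1.1, (by
        obtain ⟨g, hg⟩ := isConj_iff.1 a.1.2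
        rw [← hg, orderOf_conj', ht]), a.2.2.2⟩⟩
    have hf : Function.Injective f := by
      rintro ⟨⟨s, hs⟩, ⟨x, hx⟩⟩ ⟨⟨s', hs'⟩, ⟨x', hx'⟩⟩ e
      have e1 : x = x' := congrArg (fun p => (p.1.1 : G)) e
      have e2 : s = s' := congrArg (fun p => (p.2.1 : G)) e
      subst e1 e2
      rfl
    have h := Nat.card_le_card_of_injective f hf
    rw [← card_pairs, h6, Nat.card_sigma, Finset.sum_congr rfl (fun s _ => hsame s),
      Finset.sum_const, smul_eq_mul, Finset.card_univ, ← Nat.card_eq_fintype_card, hK] at h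
    exact h
  set n := Nat.card (Sylow 3 (cz t)) with hn
  have hn12 : n ≤ 12 := by omega
  have hn1 : n % 3 = 1 := card_sylow_modEq_one 3 (cz t)
  have hn128 : n ∣ 128 := by
    have h := Sylow.card_dvd_index P
    have hi := (P : Subgroup (cz t)).card_mul_index
    have hP' : Nat.card (P : Subgroup (cz t)) = 9 := by
      rw [Nat.card_congr ((P : Subgroup (cz t)).equivMapOfInjective _
        (cz t).subtype_injective).toEquiv]
      exact hQ9 P
    rw [hP', hc] at hi
    rwa [show (P : Subgroup (cz t)).index = 128 by omega] at h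
  have hn14 : n = 1 ∨ n = 4 := by
    obtain ⟨k, hk, hk'⟩ := (Nat.dvd_prime_pow Nat.prime_two).1 (show n ∣ 2 ^ 7 from hn128)
    rw [hk'] at hn12 hn1 ⊢
    interval_cases k <;> omega
  -- in either case the centraliser normalises `P`
  have hnorm : ∀ Q, Q = P := by
    rcases hn14 with h | h
    · intro Q
      haveI := (Nat.card_eq_one_iff_unique.1 h).1
      exact Subsingleton.elim _ _
    · intro Q
      have horb := Nat.card_congr
        (MulAction.orbitProdStabilizerEquivGroup (P : Subgroup (cz t)) Q)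
      rw [Nat.card_prod] at horb
      have hP' : Nat.card (P : Subgroup (cz t)) = 9 := by
        rw [Nat.card_congr ((P : Subgroup (cz t)).equivMapOfInjective _
          (cz t).subtype_injective).toEquiv]
        exact hQ9 P
      rw [hP'] at horb
      have hle : Nat.card (MulAction.orbit (P : Subgroup (cz t)) Q) ≤ 4 :=
        h ▸ Nat.card_le_card_of_injective Subtype.val Subtype.val_injective
      have hst : 1 < Nat.card (MulAction.stabilizer (P : Subgroup (cz t)) Q) := by
        by_contra h1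
        have := Nat.mul_le_mul hle (Nat.not_lt.1 h1)
        omega
      haveI := Finite.one_lt_card_iff_nontrivial.1 hst
      obtain ⟨⟨z, hzs⟩, hz1⟩ := exists_ne (1 : MulAction.stabilizer (P : Subgroup (cz t)) Q)
      have hz1' : (z : cz t) ≠ 1 := fun e => hz1 (Subtype.ext (Subtype.ext e))
      have hzs' : (z : cz t) • Q = Q := hzs
      have hzn : (z : cz t) ∈ normalizer ((Q : Subgroup (cz t)) : Set (cz t)) :=
        Sylow.smul_eq_iff_mem_normalizer.1 hzs'
      have hzQ : (z : cz t) ∈ (Q : Subgroup (cz t)) := by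
        have hz3 : orderOf (z : cz t) = 3 := by
          rw [← Subgroup.orderOf_coe (z : cz t)]
          exact D.order_three (hQ9 P) ⟨_, z.2, rfl⟩ (fun e => hz1' (Subtype.ext e))
        have hle : ((Q : Subgroup (cz t)) ⊔ zpowers (z : cz t) : Subgroup (cz t)) = Q := Q.3
          (IsPGroup.to_sup_of_normal_left' Q.2 (isPGroup_zpowers hz3) (zpowers_le.2 hzn))
          le_sup_left
        exact hle.le (le_sup_right (a := (Q : Subgroup (cz t))) (mem_zpowers _))
      exact hinj Q P (D.ti (hQ9 P) (hQ9 Q) ht (hQt P) (z := ((z : cz t) : G)) ⟨_, z.2, rfl⟩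
        ⟨_, hzQ, rfl⟩ (fun e => hz1' (Subtype.ext e)))
  have hle : cz t ≤ normalizer (toG P : Set G) := by
    intro c hcm
    refine mem_normalizer_of fun p hp => ?_
    obtain ⟨p', hp', rfl⟩ := hp
    have h := hnorm ((⟨c, hcm⟩ : cz t) • P)
    refine ⟨(⟨c, hcm⟩ : cz t) * p' * (⟨c, hcm⟩ : cz t)⁻¹, ?_, rfl⟩
    rw [← h, Sylow.coe_subgroup_smul]
    exact ⟨p', hp', rfl⟩
  obtain ⟨x, hx, hx1⟩ : ∃ x ∈ toG P, x ≠ 1 := by
    obtain ⟨⟨x, hx⟩⟩ : Nonempty {x : G // x ∈ toG P ∧ x ≠ 1} :=
      (Nat.card_pos_iff.1 (by rw [h8]; norm_num)).1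
    exact ⟨x, hx⟩
  have hN := card_conj_orbit (normalizer (toG P : Set G)) x
  have ho8 : Nat.card {v : G // ∃ n ∈ normalizer (toG P : Set G), n * x * n⁻¹ = v} ≤ 8 := by
    rw [← h8 P]
    refine Nat.card_le_card_of_injective (fun v => (⟨v.1, ?_⟩ : {u : G // u ∈ toG P ∧ u ≠ 1})) ?_
    · obtain ⟨n, hn, e⟩ := v.2
      rw [← e]
      exact ⟨(mem_normalizer_iff.1 hn x).1 hx, fun e' => hx1 (conj_eq_one_iff.1 e')⟩
    · intro u v e
      exact Subtype.ext (congrArg (fun w : {u : G // u ∈ toG P ∧ u ≠ 1} => w.1) e)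
  have h36 : Nat.card (normalizer (toG P : Set G) ⊓ cz x : Subgroup G) ≤ 36 :=
    (card_le_of_le inf_le_right).trans (le_of_eq (D.cent x (D.order_three (hQ9 P) hx hx1)))
  have := Nat.le_of_dvd Nat.card_pos (card_dvd_of_le hle)
  rw [hc, ← hN] at this
  have := Nat.mul_le_mul ho8 h36
  omega

end ThreeData

/-- The local data follow from the order and the set of counts of elements by order. -/
theorem loc_of_nse (hcard : Nat.card G = 443520)
    (hnse : {c : ℕ | 0 < c ∧ ∃ n : ℕ, c = Nat.card {g : G // orderOf g = n}} = nseM22) : Loc G := by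
  classical
  haveI := Fintype.ofFinite G
  haveI : Fact (Nat.Prime 2) := ⟨Nat.prime_two⟩
  obtain ⟨h2, h3, h6, six, hcp⟩ := orders_of_nse hcard hnse
  have D : ThreeData G := ⟨fun x hx => (card_cz_three hcard h3 h6 six hx).1,
    fun x hx => (card_cz_three hcard h3 h6 six hx).2, six, hcard⟩
  have conj3 : ∀ x y : G, orderOf x = 3 → orderOf y = 3 → IsConj x y := by
    intro x y hx hy
    let f : {u : G // IsConj x u} → {g : G // orderOf g = 3} := fun u => ⟨u.1, by
      obtain ⟨c, hc⟩ := isConj_iff.1 u.2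
      rw [← hc, orderOf_conj', hx]⟩
    have hf : Function.Bijective f := (Nat.bijective_iff_injective_and_card f).2
      ⟨fun a b e => Subtype.ext (congrArg (fun w : {g : G // orderOf g = 3} => w.1) e), by
        have h := card_class_mul x
        have hcnt : Nat.card {g : G // orderOf g = 3} = 12320 := h3
        rw [D.cent x hx, hcard] at h
        omega⟩
    obtain ⟨u, hu⟩ := hf.2 ⟨y, hy⟩
    have e : u.1 = y := congrArg (fun w : {g : G // orderOf g = 3} => w.1) hu
    rw [← e]
    exact u.2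
  -- an involution central in a Sylow subgroup
  obtain ⟨S⟩ : Nonempty (Sylow 2 G) := inferInstance
  have hS : Nat.card (S : Subgroup G) = 128 := by
    rw [Sylow.card_eq_multiplicity, hcard, show (443520 : ℕ) = 2 ^ 7 * 3465 by norm_num,
      Nat.factorization_mul (by norm_num) (by norm_num), Nat.prime_two.factorization_pow]
    simp [Nat.factorization_eq_zero_of_not_dvd (show ¬ 2 ∣ 3465 by norm_num)]
  haveI : Nontrivial (S : Subgroup G) := Finite.one_lt_card_iff_nontrivial.1 (by rw [hS]; norm_num)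
  have hZ := S.2.center_nontrivial
  obtain ⟨z, hz⟩ := exists_prime_orderOf_dvd_card' (G := center (S : Subgroup G)) 2 (by
    obtain ⟨k, hk⟩ := IsPGroup.iff_card.1 (S.2.to_subgroup (center (S : Subgroup G)))
    have h1 := Finite.one_lt_card_iff_nontrivial.2 hZ
    rcases Nat.eq_zero_or_pos k with rfl | hk0
    · rw [hk] at h1; norm_num at h1
    · rw [hk]; exact dvd_pow_self 2 hk0.ne')
  set t : G := ((z : (S : Subgroup G)) : G) with htdef
  have ht : orderOf t = 2 := by rw [htdef, Subgroup.orderOf_coe, Subgroup.orderOf_coe, hz]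
  have hSt : (S : Subgroup G) ≤ cz t := fun s hs =>
    mem_cz.2 (congrArg Subtype.val (mem_center_iff.1 z.2 ⟨s, hs⟩))
  have h128 := hS ▸ card_dvd_of_le hSt
  have hnp : ∀ p, p = 5 ∨ p = 7 ∨ p = 11 → ¬ p ∣ Nat.card (cz t) := by
    intro p hp hd
    haveI : Fact p.Prime := ⟨by rcases hp with rfl | rfl | rfl <;> norm_num⟩
    obtain ⟨w, hw, hwo⟩ := exists_orderOf p hd
    have h := Subgroup.orderOf_dvd_natCard (centralizer ({w} : Set G))
      (mem_centralizer_singleton_iff.2 (mem_cz.1 hw).symm.eq)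
    rw [ht, hcp p hp w hwo] at h
    rcases hp with rfl | rfl | rfl <;> omega
  have h1152 : Nat.card (cz t) ∣ 1152 := by
    have hdvd : Nat.card (cz t) ∣ 443520 := hcard ▸ card_subgroup_dvd_card _
    refine Nat.Coprime.dvd_of_dvd_mul_right (n := 385) ?_
      (by rwa [show 1152 * 385 = 443520 from rfl])
    rw [show (385 : ℕ) = 5 * 7 * 11 by norm_num]
    have hp : ∀ p, p.Prime → ¬ p ∣ Nat.card (cz t) → Nat.Coprime (Nat.card (cz t)) p := fun p hp h =>
      ((Nat.Prime.coprime_iff_not_dvd hp).2 h).symm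
    exact ((hp 5 (by norm_num) (hnp 5 (by simp))).mul_right
      (hp 7 (by norm_num) (hnp 7 (by simp)))).mul_right
        (hp 11 (by norm_num) (hnp 11 (by simp)))
  let f : {u : G // IsConj t u} → {g : G // orderOf g = 2} := fun u => ⟨u.1, by
    obtain ⟨c, hc⟩ := isConj_iff.1 u.2
    rw [← hc, orderOf_conj', ht]⟩
  have hfinj : Function.Injective f := fun a b e =>
    Subtype.ext (congrArg (fun w : {g : G // orderOf g = 2} => w.1) e)
  have hle := Nat.card_le_card_of_injective f hfinj
  have h2' : Nat.card {g : G // orderOf g = 2} = 1155 := h2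
  rw [h2'] at hle
  have hmul := card_class_mul t
  rw [hcard] at hmul
  have h384 : Nat.card (cz t) = 384 := by
    obtain ⟨m, hm⟩ := h128
    rw [hm] at h1152
    have hm9 : m ∣ 3 ^ 2 := Nat.dvd_of_mul_dvd_mul_left (by norm_num : 0 < 128) h1152
    obtain ⟨k, hk, rfl⟩ := (Nat.dvd_prime_pow Nat.prime_three).1 hm9
    interval_cases k
    · rw [hm] at hmul; omega
    · rw [hm]; rfl
    · exact (D.not_1152 h6 ht (by rw [hm]; rfl)).elim
  have hf : Function.Bijective f := (Nat.bijective_iff_injective_and_card f).2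
    ⟨hfinj, by rw [h384] at hmul; omega⟩
  have hconj : ∀ s, orderOf s = 2 → IsConj t s := fun s hs => by
    obtain ⟨u, hu⟩ := hf.2 ⟨s, hs⟩
    have e : u.1 = s := congrArg (fun w : {g : G // orderOf g = 2} => w.1) hu
    rw [← e]
    exact u.2
  refine ⟨hcard, D.cent, six, conj3, fun s hs => ?_,
    fun s u hs hu => (hconj s hs).symm.trans (hconj u hu), fun z hz => hcp 5 (by simp) z hz⟩
  obtain ⟨c, rfl⟩ := isConj_iff.1 (hconj s hs)
  exact (card_cz_conj c t).trans h384

end H78.M22R
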