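import Cfsg.Agent.H78.M22R.HexMain
import Cfsg.Agent.H78.M22R.LocOfNse
import Cfsg.Agent.H65.M22Count77

/-! Recognition of M22 from its local data, and from its order and element counts. -/

set_option autoImplicit false

namespace H78.M22R

/-- A group with the local data of M22 is isomorphic to M22. -/
theorem iso_of_loc {G : Type*} [Group G] [Finite G] (L : Loc G) :
    Nonempty (G ≃* ↥Cfsg.Spor.M22) := by
  obtain ⟨H⟩ := L.exists_hex
  exact H65.M22Count.m22_of_hex L H

/-- A group of order 443520 with the counts of M22 is isomorphic to M22. -/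
theorem iso_of_nse {G : Type*} [Group G] [Finite G] (hcard : Nat.card G = 443520)
    (hnse : {c : ℕ | 0 < c ∧ ∃ n : ℕ, c = Nat.card {g : G // orderOf g = n}} = nseM22) :
    Nonempty (G ≃* ↥Cfsg.Spor.M22) :=
  iso_of_loc (loc_of_nse hcard hnse)

end H78.M22R
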