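import Cfsg.Agent.H78.M22R.Base

/-! A subgroup of order nine and the four-groups of its elements. -/

set_option autoImplicit false
set_option linter.style.haveILetI false

namespace H78.M22R.Loc

open Subgroup

variable {G : Type*} [Group G] [Finite G] (L : Loc G)
include L

theorem four_conj {x v g : G} (hx : orderOf x = 3) (hv : v ∈ four x) :
    g * v * g⁻¹ ∈ four (g * x * g⁻¹) := by
  rw [L.mem_four (by rw [orderOf_conj', hx])]
  obtain ⟨h1, h2⟩ := (L.mem_four hx).1 hv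
  exact ⟨(commute_conj_iff g v x).2 h1, by
    rw [show g * v * g⁻¹ * (g * v * g⁻¹) = g * (v * v) * g⁻¹ by group, h2]; group⟩

theorem four_commute {x u v : G} (hx : orderOf x = 3) (hu : u ∈ four x) (hv : v ∈ four x) :
    Commute u v := by
  have h := ((L.mem_four hx).1 (mul_mem hu hv)).2
  have e := mul_eq_one_iff_eq_inv.1 h
  rwa [mul_inv_rev, inv_eq_of_mul_eq_one_left ((L.mem_four hx).1 hu).2,
    inv_eq_of_mul_eq_one_left ((L.mem_four hx).1 hv).2] at e

theorem four_inv {x : G} (hx : orderOf x = 3) : four x⁻¹ = four x := by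
  ext v
  rw [L.mem_four hx, L.mem_four (by rw [orderOf_inv, hx]), Commute.inv_right_iff]

variable {P : Subgroup G} (hP : Nat.card P = 9)
include hP

theorem order_three {p : G} (hp : p ∈ P) (h1 : p ≠ 1) : orderOf p = 3 := by
  have h9 : orderOf p ∣ 9 := hP ▸ Subgroup.orderOf_dvd_natCard P hp
  obtain ⟨k, hk, hk'⟩ := (Nat.dvd_prime_pow Nat.prime_three).1 (show orderOf p ∣ 3 ^ 2 from h9)
  interval_cases k
  · exact absurd (orderOf_eq_one_iff.1 (by simpa using hk')) h1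
  · simpa using hk'
  · exfalso
    have h3 : orderOf (p ^ 3) = 3 := by
      rw [orderOf_pow' p (by norm_num), hk']; norm_num
    have h6 := orderOf_dvd_of_pow_eq_one (L.six _ p h3 ((Commute.refl p).pow_right 3))
    rw [hk'] at h6; norm_num at h6

theorem commP {p q : G} (hp : p ∈ P) (hq : q ∈ P) : Commute p q := by
  haveI : Fact (Nat.Prime 3) := ⟨Nat.prime_three⟩
  exact congrArg Subtype.val (IsPGroup.commutative_of_card_eq_prime_sq (p := 3) (G := P)
    (by rw [hP]; norm_num) (⟨p, hp⟩ : P) ⟨q, hq⟩)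

theorem cube {p : G} (hp : p ∈ P) : p ^ 3 = 1 := by
  by_cases h : p = 1
  · simp [h]
  · exact pow_eq_one_of (by rw [L.order_three hP hp h])

theorem inv_ne {p : G} (hp : p ∈ P) (h1 : p ≠ 1) : p⁻¹ ≠ p := by
  intro e
  have : p ^ 2 = 1 := by rw [pow_two]; nth_rw 2 [← e]; exact mul_inv_cancel p
  have := orderOf_dvd_of_pow_eq_one this
  rw [L.order_three hP hp h1] at this
  norm_num at this

theorem sup_eq {x y : G} (hx : x ∈ P) (h1 : x ≠ 1) (hy : y ∈ P) (hyx : y ∉ zpowers x) :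
    zpowers x ⊔ zpowers y = P := by
  haveI : Fact (Nat.Prime 3) := ⟨Nat.prime_three⟩
  have hle : zpowers x ⊔ zpowers y ≤ P := sup_le (zpowers_le.2 hx) (zpowers_le.2 hy)
  refine eq_of_le_of_card_ge hle ?_
  have h3 := L.order_three hP hx h1
  have hlt : zpowers x < zpowers x ⊔ zpowers y := lt_of_le_of_ne le_sup_left
    fun e => hyx (e ▸ le_sup_right (a := zpowers x) (mem_zpowers y))
  have hd := card_dvd_of_le hle
  have hd' := card_dvd_of_le hlt.le
  have hne : Nat.card (zpowers x ⊔ zpowers y : Subgroup G) ≠ 3 := fun e =>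
    hlt.ne (eq_of_le_of_card_ge hlt.le (by rw [e, Nat.card_zpowers, h3]))
  rw [hP] at hd ⊢
  rw [Nat.card_zpowers, h3] at hd'
  obtain ⟨k, hk, hk'⟩ := (Nat.dvd_prime_pow Nat.prime_three).1
    (show Nat.card (zpowers x ⊔ zpowers y : Subgroup G) ∣ 3 ^ 2 from hd)
  interval_cases k <;> omega

theorem le_four_norm {x p v : G} (hx : x ∈ P) (h1 : x ≠ 1) (hp : p ∈ P) (hv : v ∈ four x) :
    p * v * p⁻¹ ∈ four x := by
  have h := L.four_conj (g := p) (L.order_three hP hx h1) hv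
  rwa [(L.commP hP hp hx).eq, mul_inv_cancel_right] at h

/-- Only the line of `x` fixes an involution of its four-group. -/
theorem line {x y v : G} (hx : x ∈ P) (h1 : x ≠ 1) (hy : y ∈ P) (hv : v ∈ four x) (hv1 : v ≠ 1)
    (hc : Commute y v) : y ∈ zpowers x := by
  by_contra hn
  have h3 := L.order_three hP hx h1
  obtain ⟨hvx, hv2⟩ := (L.mem_four h3).1 hv
  have ht : orderOf v = 2 := by
    haveI : Fact (Nat.Prime 2) := ⟨Nat.prime_two⟩
    exact orderOf_eq_prime (by rw [pow_two, hv2]) hv1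
  refine L.not_nine ht (H := zpowers x ⊔ zpowers y) (sup_le
    (zpowers_le.2 (mem_cz.2 hvx.symm)) (zpowers_le.2 (mem_cz.2 hc))) ?_
  rw [L.sup_eq hP hx h1 hy hn, hP]

theorem four_inf {x v : G} (hx : x ∈ P) (h1 : x ≠ 1) (hv : v ∈ four x) (hvP : v ∈ P) : v = 1 := by
  by_contra hv1
  have h2 := ((L.mem_four (L.order_three hP hx h1)).1 hv).2
  exact L.inv_ne hP hvP hv1 (inv_eq_of_mul_eq_one_left h2)

theorem trans {x y v w : G} (hx : x ∈ P) (h1 : x ≠ 1) (hy : y ∈ P) (hyx : y ∉ zpowers x)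
    (hv : v ∈ four x) (hv1 : v ≠ 1) (hw : w ∈ four x) (hw1 : w ≠ 1) :
    w = v ∨ w = y * v * y⁻¹ ∨ w = y⁻¹ * v * y := by
  classical
  by_contra hc
  simp only [not_or] at hc
  obtain ⟨c1, c2, c3⟩ := hc
  haveI := Fintype.ofFinite G
  have hv' := L.le_four_norm hP hx h1 hy hv
  have hv'' : y⁻¹ * v * y ∈ four x := by
    have h := L.le_four_norm hP hx h1 (inv_mem hy) hv
    rwa [inv_inv] at h
  have d1 : y * v * y⁻¹ ≠ v := fun e =>
    hyx (L.line hP hx h1 hy hv hv1 (mul_inv_eq_iff_eq_mul.1 e))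
  have d2 : y⁻¹ * v * y ≠ v := fun e => by
    apply d1
    have e' : y * (y⁻¹ * v * y) * y⁻¹ = v := by group
    rw [e] at e'; exact e'
  have d3 : y * v * y⁻¹ ≠ y⁻¹ * v * y := fun e => by
    apply hyx
    have hc : Commute (y ^ 2) v := by
      show y ^ 2 * v = v * y ^ 2
      calc y ^ 2 * v = y * (y * v * y⁻¹) * y := by rw [pow_two]; group
        _ = y * (y⁻¹ * v * y) * y := by rw [e]
        _ = v * y ^ 2 := by rw [pow_two]; group
    have h := L.line hP hx h1 (pow_mem hy 2) hv hv1 hc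
    have e' : y = (y ^ 2) ^ 2 := by
      rw [← pow_mul, show 2 * 2 = 3 + 1 by rfl, pow_succ, L.cube hP hy, one_mul]
    rw [e']; exact pow_mem h 2
  have nz : ∀ {a b : G}, a ≠ 1 → b * a * b⁻¹ ≠ 1 := fun ha e => ha (conj_eq_one_iff.1 e)
  have n2 : y⁻¹ * v * y ≠ 1 := by simpa using nz (b := y⁻¹) hv1
  have hsub : ({1, v, y * v * y⁻¹, y⁻¹ * v * y, w} : Finset G) ⊆
      Finset.univ.filter fun g => g ∈ four x := by
    intro g hg
    simp only [Finset.mem_insert, Finset.mem_singleton] at hg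
    rw [Finset.mem_filter]
    rcases hg with rfl | rfl | rfl | rfl | rfl
    exacts [⟨Finset.mem_univ _, one_mem _⟩, ⟨Finset.mem_univ _, hv⟩, ⟨Finset.mem_univ _, hv'⟩,
      ⟨Finset.mem_univ _, hv''⟩, ⟨Finset.mem_univ _, hw⟩]
  have h := Finset.card_le_card hsub
  rw [← Fintype.card_subtype, ← Nat.card_eq_fintype_card] at h
  rw [Finset.card_insert_of_notMem, Finset.card_insert_of_notMem, Finset.card_insert_of_notMem,
    Finset.card_insert_of_notMem, Finset.card_singleton] at h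
  · have h4 := L.card_four (L.order_three hP hx h1)
    omega
  · simpa [eq_comm] using c3
  · simp [d3, Ne.symm c2]
  · simp [d1.symm, d2.symm, Ne.symm c1]
  · simp [hv1.symm, (nz (b := y) hv1).symm, n2.symm, hw1.symm]

theorem no_extension {g : G} (hg : g ^ 3 = 1) (hn : g ∈ normalizer (P : Set G)) : g ∈ P := by
  haveI : Fact (Nat.Prime 3) := ⟨Nat.prime_three⟩
  by_contra hgP
  have hg1 : g ≠ 1 := fun e => hgP (e ▸ one_mem P)
  have ho : orderOf g = 3 := orderOf_eq_prime hg hg1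
  have hd : P ⊓ zpowers g = ⊥ := by
    refine (eq_bot_iff_forall _).2 fun w hw => ?_
    rcases mem_zpowers_three ho (mem_inf.1 hw).2 with h | h | h
    · exact h
    · exact absurd (h ▸ (mem_inf.1 hw).1) hgP
    · exact absurd (inv_mem_iff.1 (h ▸ (mem_inf.1 hw).1)) hgP
  have h27 := card_sup_eq (zpowers_le.2 hn) hd
  rw [hP, Nat.card_zpowers, ho] at h27
  have := card_subgroup_dvd_card (P ⊔ zpowers g)
  rw [h27, L.card] at this
  norm_num at this

theorem fix_line {g x : G} (hx : x ∈ P) (h1 : x ≠ 1) (hn : g ∈ normalizer (P : Set G))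
    (hgx : g * x * g⁻¹ = x) : g ∈ P := by
  obtain ⟨y, hy, hyx⟩ : ∃ y ∈ P, y ∉ zpowers x := by
    by_contra! h
    have := card_dvd_of_le (show P ≤ zpowers x from h)
    rw [hP, Nat.card_zpowers, L.order_three hP hx h1] at this
    norm_num at this
  have h3 := L.order_three hP hx h1
  have hc : Commute g x := mul_inv_eq_iff_eq_mul.1 hgx
  have h6 := L.six x g h3 hc
  have hv : g ^ 3 ∈ four x := (L.mem_four h3).2
    ⟨hc.pow_left 3, by rw [← pow_add]; exact h6⟩
  have hvc : Commute y (g ^ 3) := by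
    have hnv : g ^ 3 ∈ normalizer (P : Set G) := pow_mem hn 3
    have h : g ^ 3 * y * (g ^ 3)⁻¹ * y⁻¹ = 1 := by
      refine L.four_inf hP hx h1 ?_ (mul_mem ((mem_normalizer_iff.1 hnv y).1 hy) (inv_mem hy))
      have e : g ^ 3 * y * (g ^ 3)⁻¹ * y⁻¹ = g ^ 3 * (y * (g ^ 3)⁻¹ * y⁻¹) := by group
      rw [e]
      exact mul_mem hv (L.le_four_norm hP hx h1 hy (inv_mem hv))
    exact (mul_inv_eq_iff_eq_mul.1 (mul_inv_eq_one.1 h)).symm
  refine L.no_extension hP ?_ hn
  by_contra hg3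
  exact hyx (L.line hP hx h1 hy hv hg3 hvc)

theorem centralizer_le : centralizer (P : Set G) ≤ P := by
  intro g hg
  obtain ⟨x, hx, h1⟩ : ∃ x ∈ P, x ≠ 1 := by
    by_contra! h
    rw [(eq_bot_iff_forall P).2 h, card_bot] at hP
    omega
  refine L.fix_line hP hx h1 (centralizer_le_normalizer _ hg) ?_
  rw [← mem_centralizer_iff.1 hg x hx, mul_inv_cancel_right]

theorem inverts {g x p : G} (hx : x ∈ P) (h1 : x ≠ 1) (hn : g ∈ normalizer (P : Set G))
    (hgx : g * x * g⁻¹ = x⁻¹) (hp : p ∈ P) : g * p * g⁻¹ = p⁻¹ := by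
  have hgp : g * p * g⁻¹ ∈ P := (mem_normalizer_iff.1 hn p).1 hp
  have hg2 : g * g ∈ P := by
    refine L.fix_line hP hx h1 (mul_mem hn hn) ?_
    calc g * g * x * (g * g)⁻¹ = g * (g * x * g⁻¹) * g⁻¹ := by group
      _ = g * x⁻¹ * g⁻¹ := by rw [hgx]
      _ = (g * x * g⁻¹)⁻¹ := by group
      _ = x := by rw [hgx, inv_inv]
  have hfix : g * (p * (g * p * g⁻¹)) * g⁻¹ = p * (g * p * g⁻¹) := by
    calc g * (p * (g * p * g⁻¹)) * g⁻¹ = (g * p * g⁻¹) * ((g * g) * p * (g * g)⁻¹) := by group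
      _ = (g * p * g⁻¹) * p := by rw [(L.commP hP hg2 hp).eq, mul_inv_cancel_right]
      _ = p * (g * p * g⁻¹) := (L.commP hP hgp hp).eq
  by_cases hz : p * (g * p * g⁻¹) = 1
  · exact eq_inv_of_mul_eq_one_right hz
  · have hgP : g ∈ P := L.fix_line hP (mul_mem hp hgp) hz hn hfix
    rw [(L.commP hP hgP hx).eq, mul_inv_cancel_right] at hgx
    exact absurd hgx.symm (L.inv_ne hP hx h1)

/-- An element sending a nontrivial element of `P` into its own line fixes every line. -/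
theorem fixes_lines {g z p : G} (hz : z ∈ P) (h1 : z ≠ 1) (hn : g ∈ normalizer (P : Set G))
    (hgz : g * z * g⁻¹ = z ∨ g * z * g⁻¹ = z⁻¹) (hp : p ∈ P) :
    g * p * g⁻¹ = p ∨ g * p * g⁻¹ = p⁻¹ := by
  rcases hgz with h | h
  · left
    rw [(L.commP hP (L.fix_line hP hz h1 hn h) hp).eq, mul_inv_cancel_right]
  · exact Or.inr (L.inverts hP hz h1 hn h hp)

theorem inverter_sq {g : G} (hg : ∀ p ∈ P, g * p * g⁻¹ = p⁻¹) : g * g = 1 := by
  have h2 : g * g ∈ P := by
    refine L.centralizer_le hP (mem_centralizer_iff.2 fun p hp => ?_)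
    have e : g * g * p * (g * g)⁻¹ = p := by
      calc g * g * p * (g * g)⁻¹ = g * (g * p * g⁻¹) * g⁻¹ := by group
        _ = p := by rw [hg p hp, hg _ (inv_mem hp), inv_inv]
    exact (mul_inv_eq_iff_eq_mul.1 e).symm
  by_contra hne
  have h := hg _ h2
  rw [show g * (g * g) * g⁻¹ = g * g by group] at h
  exact L.inv_ne hP h2 hne h.symm

theorem fusion {a b : G} (ha : a ∈ P) (ha1 : a ≠ 1) (hb : b ∈ P) (hb1 : b ≠ 1) :
    ∃ n ∈ normalizer (P : Set G), n * a * n⁻¹ = b := by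
  haveI : Fact (Nat.Prime 3) := ⟨Nat.prime_three⟩
  have hf : (Nat.card G).factorization 3 = 2 := by
    rw [L.card, show (443520 : ℕ) = 3 ^ 2 * 49280 by norm_num,
      Nat.factorization_mul (by norm_num) (by norm_num), Nat.prime_three.factorization_pow]
    simp [Nat.factorization_eq_zero_of_not_dvd (show ¬ 3 ∣ 49280 by norm_num)]
  let S : Sylow 3 G := Sylow.ofCard P (by rw [hP, hf]; norm_num)
  haveI : IsMulCommutative (S : Subgroup G) :=
    ⟨⟨fun p q => Subtype.ext (L.commP hP p.2 q.2).eq⟩⟩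
  obtain ⟨c, hc⟩ := isConj_iff.1 (L.conj3 a b (L.order_three hP ha ha1) (L.order_three hP hb hb1))
  obtain ⟨n, hn, he⟩ := S.conj_eq_normalizer_conj_of_mem a c⁻¹ (show a ∈ (S : Subgroup G) from ha)
    (show c⁻¹⁻¹ * a * c⁻¹ ∈ (S : Subgroup G) by rw [inv_inv, hc]; exact hb)
  rw [inv_inv, hc] at he
  exact ⟨n⁻¹, inv_mem hn, by rw [inv_inv]; exact he.symm⟩

theorem exists_inverter {x t : G} (hx : x ∈ P) (h1 : x ≠ 1) (ht : t ∈ four x) (ht1 : t ≠ 1) :
    ∃ τ : G, (∀ p ∈ P, τ * p * τ⁻¹ = p⁻¹) ∧ τ * t * τ⁻¹ = t := by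
  obtain ⟨y, hy, hyx⟩ : ∃ y ∈ P, y ∉ zpowers x := by
    by_contra! h
    have := card_dvd_of_le (show P ≤ zpowers x from h)
    rw [hP, Nat.card_zpowers, L.order_three hP hx h1] at this
    norm_num at this
  have h3 := L.order_three hP hx h1
  obtain ⟨n, hn, hnx⟩ := L.fusion hP hx h1 (inv_mem hx) (inv_ne_one.2 h1)
  have hn' : ∀ p ∈ P, n * p * n⁻¹ = p⁻¹ := fun p hp => L.inverts hP hx h1 hn hnx hp
  have hmem : n * t * n⁻¹ ∈ four x := by
    have h := L.four_conj (g := n) h3 ht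
    rwa [hnx, L.four_inv h3] at h
  have step : ∀ q ∈ P, q * (n * t * n⁻¹) * q⁻¹ = t →
      ∃ τ : G, (∀ p ∈ P, τ * p * τ⁻¹ = p⁻¹) ∧ τ * t * τ⁻¹ = t := fun q hq e =>
    ⟨q * n, fun p hp => by
      calc q * n * p * (q * n)⁻¹ = q * (n * p * n⁻¹) * q⁻¹ := by group
        _ = p⁻¹ := by rw [hn' p hp, (L.commP hP hq (inv_mem hp)).eq, mul_inv_cancel_right],
      by
        calc q * n * t * (q * n)⁻¹ = q * (n * t * n⁻¹) * q⁻¹ := by group
          _ = t := e⟩
  rcases L.trans hP hx h1 hy hyx ht ht1 hmem (fun e => ht1 (conj_eq_one_iff.1 e)) with e | e | e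
  · exact step 1 (one_mem P) (by rw [e]; group)
  · exact step y⁻¹ (inv_mem hy) (by rw [e]; group)
  · exact step y hy (by rw [e]; group)

end H78.M22R.Loc
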