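import Cfsg.Agent.H78.M22R.Core
import Mathlib.GroupTheory.Nilpotent
import Mathlib.GroupTheory.GroupAction.CardCommute
import Mathlib.GroupTheory.SpecificGroups.Cyclic

/-! The part of the core centralising the four-group. -/

set_option autoImplicit false
set_option linter.style.haveILetI false

namespace H78.M22R

open Subgroup

variable {G : Type*} [Group G] [Finite G]

/-- Normalisers grow in two-groups. -/
theorem exists_norm_outside {A B : Subgroup G} (hB : IsPGroup 2 B) (hAB : A < B) :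
    ∃ g ∈ B, g ∉ A ∧ ∀ a ∈ A, g * a * g⁻¹ ∈ A := by
  haveI : Fact (Nat.Prime 2) := ⟨Nat.prime_two⟩
  haveI : Group.IsNilpotent B := hB.isNilpotent
  have hlt : A.subgroupOf B < ⊤ := lt_top_iff_ne_top.2 fun e =>
    hAB.not_ge (subgroupOf_eq_top.1 e)
  obtain ⟨g, hg, hgA⟩ := SetLike.exists_of_lt
    (normalizerCondition_of_isNilpotent (A.subgroupOf B) hlt)
  exact ⟨g.1, g.2, fun h => hgA (mem_subgroupOf.2 h), fun a ha =>
    mem_subgroupOf.1 ((mem_normalizer_iff.1 hg ⟨a, hAB.le ha⟩).1 (mem_subgroupOf.2 ha))⟩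

theorem exists_off {P : Subgroup G} (hP : Nat.card P = 9) {x : G} (hx : orderOf x = 3) :
    ∃ y ∈ P, y ∉ zpowers x := by
  by_contra! h
  have := card_dvd_of_le (show P ≤ zpowers x from h)
  rw [hP, Nat.card_zpowers, hx] at this
  norm_num at this

namespace Loc

variable (L : Loc G) {P : Subgroup G} (hP : Nat.card P = 9)
include L hP

/-- The number of elements of `P` whose four-group lies in `A`. -/
theorem four_count {A : Subgroup G} (h2 : ∀ a ∈ A, ∃ k, a ^ (2 ^ k) = 1)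
    (hn : ∀ p ∈ P, ∀ a ∈ A, p * a * p⁻¹ ∈ A) :
    9 ∣ Nat.card A + 8 + 3 * Nat.card {z : G // z ∈ P ∧ z ≠ 1 ∧ four z ≤ A} := by
  classical
  haveI := Fintype.ofFinite P
  let act : MulAction P A :=
    { smul := fun p a => ⟨p.1 * a.1 * p.1⁻¹, hn p.1 p.2 a.1 a.2⟩
      one_smul := fun a => Subtype.ext (show (1 : G) * a.1 * (1 : G)⁻¹ = a.1 by group)
      mul_smul := fun p q a => Subtype.ext
        (show (p.1 * q.1) * a.1 * (p.1 * q.1)⁻¹ = p.1 * (q.1 * a.1 * q.1⁻¹) * p.1⁻¹ by group) }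
  haveI := Fintype.ofFinite A
  haveI : Fintype (MulAction.orbitRel.Quotient P A) := Fintype.ofFinite _
  have hburn := MulAction.sum_card_fixedBy_eq_card_orbits_mul_card_group P A
  simp only [← Nat.card_eq_fintype_card] at hburn
  rw [hP] at hburn
  have hfix : ∀ p : P, p ≠ 1 → Nat.card (MulAction.fixedBy A p) =
      1 + if four (p : G) ≤ A then 3 else 0 := by
    intro p hp
    have hp1 : (p : G) ≠ 1 := fun e => hp (Subtype.ext e)
    have h3 := L.order_three hP p.2 hp1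
    have hiff : ∀ a : A, a ∈ MulAction.fixedBy A p ↔ (a : G) ∈ four (p : G) := by
      intro a
      rw [MulAction.mem_fixedBy, L.mem_four h3]
      constructor
      · intro h
        have hc : Commute (a : G) p :=
          (mul_inv_eq_iff_eq_mul.1 (congrArg Subtype.val h)).symm
        obtain ⟨k, hk⟩ := h2 a a.2
        obtain ⟨j, -, hj⟩ := (Nat.dvd_prime_pow Nat.prime_two).1 (orderOf_dvd_of_pow_eq_one hk)
        exact ⟨hc, L.sq_of_two_power h3 hc ⟨j, hj⟩⟩
      · intro h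
        exact Subtype.ext (show (p : G) * a * (p : G)⁻¹ = a by rw [← h.1.eq, mul_inv_cancel_right])
    rw [Nat.card_congr (Equiv.subtypeEquivRight hiff)]
    split_ifs with h
    · rw [show (1 + 3 : ℕ) = 4 from rfl, ← L.card_four h3]
      exact Nat.card_congr
        { toFun := fun a => ⟨a.1.1, a.2⟩
          invFun := fun a => ⟨⟨a.1, h a.2⟩, a.2⟩
          left_inv := fun a => rfl
          right_inv := fun a => rfl }
    · rw [Nat.card_eq_one_iff_exists]
      refine ⟨⟨1, one_mem _⟩, fun a => ?_⟩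
      by_contra ha
      have ha1 : (a.1 : G) ≠ 1 := fun e => ha (Subtype.ext (Subtype.ext e))
      obtain ⟨q, hq, hqp⟩ := exists_off hP h3
      refine h fun w hw => ?_
      by_cases hw1 : w = 1
      · exact hw1 ▸ one_mem A
      rcases L.trans hP p.2 hp1 hq hqp a.2 ha1 hw hw1 with e | e | e
      · rw [e]; exact a.1.2
      · rw [e]; exact hn q hq _ a.1.2
      · rw [e]
        have := hn q⁻¹ (inv_mem hq) _ a.1.2
        rwa [inv_inv] at this
  have h1 : Nat.card (MulAction.fixedBy A (1 : P)) = Nat.card A := by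
    exact Nat.card_congr (Equiv.subtypeUnivEquiv fun a => one_smul P a)
  rw [← Finset.add_sum_erase _ _ (Finset.mem_univ (1 : P)), h1,
    Finset.sum_congr rfl (fun p hp => hfix p (Finset.mem_erase.1 hp).1), Finset.sum_add_distrib,
    Finset.sum_const, Finset.card_erase_of_mem (Finset.mem_univ _), Finset.card_univ,
    ← Nat.card_eq_fintype_card, hP, ← Finset.sum_filter, Finset.sum_const] at hburn
  have he : Nat.card {z : G // z ∈ P ∧ z ≠ 1 ∧ four z ≤ A} =
      ((Finset.univ.erase (1 : P)).filter fun p : P => four (p : G) ≤ A).card := by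
    rw [← Nat.card_eq_finsetCard]
    exact Nat.card_congr
      { toFun := fun z => ⟨⟨z.1, z.2.1⟩, Finset.mem_filter.2 ⟨Finset.mem_erase.2
          ⟨fun e => z.2.2.1 (congrArg Subtype.val e), Finset.mem_univ _⟩, z.2.2.2⟩⟩
        invFun := fun p => ⟨p.1.1, p.1.2, fun e =>
          (Finset.mem_erase.1 (Finset.mem_filter.1 p.2).1).1 (Subtype.ext e),
          (Finset.mem_filter.1 p.2).2⟩
        left_inv := fun z => rfl
        right_inv := fun p => rfl }
  rw [he]
  simp only [smul_eq_mul] at hburn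
  omega

end Loc

namespace Frame

variable (F : Frame G) (L : Loc G) {R : Subgroup G} (hR : F.IsCore R)

/-- The elements of the core centralising the four-group of `x`. -/
def partT (F : Frame G) (R : Subgroup G) : Subgroup G := R ⊓ centralizer (four F.x : Set G)

theorem τ_four {v : G} (L : Loc G) (hv : v ∈ four F.x) : F.τ * v * F.τ⁻¹ ∈ four F.x := by
  have h := L.four_conj (g := F.τ) (F.hx L) hv
  rwa [F.τ_inv _ F.x_mem, L.four_inv (F.hx L)] at h

include L hR

theorem four_le_T : four F.x ≤ F.partT R := le_inf (F.four_le_core L hR) fun _ hv =>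
  mem_centralizer_iff.2 fun _ hw => (L.four_commute (F.hx L) hw hv).eq

theorem T_pow {g : G} (hg : g ∈ F.partT R) : ∃ k, g ^ (2 ^ k) = 1 :=
  ⟨6, F.core_pow L hR (mem_inf.1 hg).1⟩

theorem norm_four_mem_T {r : G} (hr : r ∈ R) (hn : ∀ v ∈ four F.x, r * v * r⁻¹ ∈ four F.x) :
    r ∈ F.partT R := by
  have hxc : ∀ v ∈ four F.x, Commute v F.x := fun v hv => ((L.mem_four (F.hx L)).1 hv).1
  have hxT : ∀ a ∈ F.partT R, F.x * a * F.x⁻¹ ∈ F.partT R := by
    intro a ha
    refine mem_inf.2 ⟨F.x_norm L hR (mem_inf.1 ha).1, mem_centralizer_iff.2 fun v hv => ?_⟩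
    exact (((hxc v hv).mul_right (mem_centralizer_iff.1 (mem_inf.1 ha).2 v hv)).mul_right
      (hxc v hv).inv_right).eq
  have hmem : r⁻¹ * (F.x * r * F.x⁻¹) ∈ F.partT R := by
    refine mem_inf.2 ⟨mul_mem (inv_mem hr) (F.x_norm L hR hr), mem_centralizer_iff.2 fun v hv => ?_⟩
    have e1 : r⁻¹ * (F.x * r * F.x⁻¹) * v * (r⁻¹ * (F.x * r * F.x⁻¹))⁻¹ = v := by
      calc r⁻¹ * (F.x * r * F.x⁻¹) * v * (r⁻¹ * (F.x * r * F.x⁻¹))⁻¹
          = r⁻¹ * (F.x * (r * (F.x⁻¹ * v * F.x) * r⁻¹) * F.x⁻¹) * r := by group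
        _ = r⁻¹ * (F.x * (r * v * r⁻¹) * F.x⁻¹) * r := by
            rw [show F.x⁻¹ * v * F.x = v by rw [mul_assoc, (hxc v hv).eq, inv_mul_cancel_left]]
        _ = r⁻¹ * (r * v * r⁻¹) * r := by
            rw [show F.x * (r * v * r⁻¹) * F.x⁻¹ = r * v * r⁻¹ by
              rw [← (hxc _ (hn v hv)).eq, mul_inv_cancel_right]]
        _ = v := by group
    exact (mul_inv_eq_iff_eq_mul.1 e1).symm
  have h3 : ¬ 3 ∣ Nat.card (F.partT R) := fun h => by
    have := h.trans (card_dvd_of_le (inf_le_left : F.partT R ≤ R))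
    rw [hR.card] at this; norm_num at this
  obtain ⟨a, ha, hc⟩ := fix_coset (F.hx L) hxT hmem h3
  have h := F.four_le_T L hR (F.fix_mem_four L hR (mul_mem hr (mem_inf.1 ha).1) hc)
  exact (Subgroup.mul_mem_cancel_right _ ha).1 h

theorem two_mem_T {g : G} (hg : g ∈ centralizer (four F.x : Set G)) (h2 : ∃ k, g ^ (2 ^ k) = 1) :
    g ∈ F.partT R := by
  have hgv : ∀ v ∈ four F.x, g * v * g⁻¹ = v := fun v hv => by
    rw [← mem_centralizer_iff.1 hg v hv, mul_inv_cancel_right]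
  have hgC : g ∈ cz F.t := mem_cz.2 (mem_centralizer_iff.1 hg F.t F.t_mem).symm
  refine mem_inf.2 ⟨?_, hg⟩
  rcases F.cases_τ L hR hgC with h | h
  · exact (F.mem_of_comm L hR hgC h).2 h2
  exfalso
  obtain ⟨⟨r, hr, w, hw, e⟩, -⟩ := F.mem_of_comm L hR (mul_mem hgC (F.τ_memC L)) h
  have hwv : ∀ v ∈ four F.x, w * v * w⁻¹ = v := by
    intro v hv
    obtain ⟨n, rfl⟩ := mem_zpowers_iff.1 hw
    rw [← (((L.mem_four (F.hx L)).1 hv).1.zpow_right n).eq, mul_inv_cancel_right]
  have hrv : ∀ v ∈ four F.x, r * v * r⁻¹ = F.τ * v * F.τ⁻¹ := by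
    intro v hv
    calc r * v * r⁻¹ = r * (w * v * w⁻¹) * r⁻¹ := by rw [hwv v hv]
      _ = (r * w) * v * (r * w)⁻¹ := by group
      _ = g * (F.τ * v * F.τ⁻¹) * g⁻¹ := by rw [← e]; group
      _ = F.τ * v * F.τ⁻¹ := hgv _ (F.τ_four L hv)
  have hrT := F.norm_four_mem_T L hR hr fun v hv => by rw [hrv v hv]; exact F.τ_four L hv
  have hτ : ∀ v ∈ four F.x, F.τ * v * F.τ⁻¹ = v := fun v hv => by
    rw [← hrv v hv, ← mem_centralizer_iff.1 (mem_inf.1 hrT).2 v hv, mul_inv_cancel_right]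
  have hu := hτ _ (L.le_four_norm F.card_P F.x_mem F.x_ne F.y_mem F.t_mem)
  have e2 : F.τ * (F.y * F.t * F.y⁻¹) * F.τ⁻¹ = F.y⁻¹ * F.t * F.y := by
    calc F.τ * (F.y * F.t * F.y⁻¹) * F.τ⁻¹
        = (F.τ * F.y * F.τ⁻¹) * (F.τ * F.t * F.τ⁻¹) * (F.τ * F.y * F.τ⁻¹)⁻¹ := by group
      _ = F.y⁻¹ * F.t * F.y := by rw [F.τ_inv _ F.y_mem, F.τ_t, inv_inv]
  rw [e2] at hu
  apply F.y_not
  have hc : Commute (F.y ^ 2) F.t := by
    show F.y ^ 2 * F.t = F.t * F.y ^ 2
    calc F.y ^ 2 * F.t = F.y * (F.y * F.t * F.y⁻¹) * F.y := by rw [pow_two]; group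
      _ = F.y * (F.y⁻¹ * F.t * F.y) * F.y := by rw [← hu]
      _ = F.t * F.y ^ 2 := by rw [pow_two]; group
  have h := L.line F.card_P F.x_mem F.x_ne (pow_mem F.y_mem 2) F.t_mem F.t_ne hc
  have e' : F.y = (F.y ^ 2) ^ 2 := by
    rw [← pow_mul, show 2 * 2 = 3 + 1 by rfl, pow_succ, L.cube F.card_P F.y_mem, one_mul]
  rw [e']; exact pow_mem h 2

theorem P_norm_T {p a : G} (hp : p ∈ F.P) (ha : a ∈ F.partT R) :
    p * a * p⁻¹ ∈ F.partT R := by
  refine F.two_mem_T L hR (mem_centralizer_iff.2 fun v hv => ?_) ?_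
  · have hv' := L.le_four_norm F.card_P F.x_mem F.x_ne (inv_mem hp) hv
    rw [inv_inv] at hv'
    have h := mem_centralizer_iff.1 (mem_inf.1 ha).2 _ hv'
    calc v * (p * a * p⁻¹) = p * ((p⁻¹ * v * p) * a) * p⁻¹ := by group
      _ = p * (a * (p⁻¹ * v * p)) * p⁻¹ := by rw [h]
      _ = p * a * p⁻¹ * v := by group
  · obtain ⟨k, hk⟩ := F.T_pow L hR ha
    exact ⟨k, by rw [conj_pow, hk]; group⟩

theorem card_T : Nat.card (F.partT R) = 16 ∨ Nat.card (F.partT R) = 64 := by
  have hd : Nat.card (F.partT R) ∣ 2 ^ 6 := by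
    have := card_dvd_of_le (inf_le_left : F.partT R ≤ R)
    rwa [hR.card] at this
  have h := L.four_count F.card_P (fun a ha => F.T_pow L hR ha) (fun p hp a ha => F.P_norm_T L hR hp ha)
  have h4 := card_dvd_of_le (F.four_le_T L hR)
  rw [L.card_four (F.hx L)] at h4
  have hne : Nat.card (F.partT R) ≠ 4 := by
    intro e
    have heq : four F.x = F.partT R := eq_of_le_of_card_ge (F.four_le_T L hR)
      (by rw [e, L.card_four (F.hx L)])
    have hlt : four F.x < R := lt_of_le_of_ne (F.four_le_core L hR) fun e' => by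
      have := L.card_four (F.hx L)
      rw [e', hR.card] at this; omega
    obtain ⟨g, hg, hgn, hgc⟩ := exists_norm_outside
      (IsPGroup.of_card (n := 6) (by rw [hR.card]; rfl)) hlt
    exact hgn (heq ▸ F.norm_four_mem_T L hR hg hgc)
  obtain ⟨k, hk, hk'⟩ := (Nat.dvd_prime_pow Nat.prime_two).1 hd
  rw [hk'] at h h4 hne ⊢
  interval_cases k <;> omega

theorem exists_line : ∃ z ∈ F.P, z ∉ zpowers F.x ∧ four z ≤ F.partT R := by
  by_contra! hno
  have h := L.four_count F.card_P (fun a ha => F.T_pow L hR ha) (fun p hp a ha => F.P_norm_T L hR hp ha)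
  have hc : Nat.card {z : G // z ∈ F.P ∧ z ≠ 1 ∧ four z ≤ F.partT R} = 2 := by
    have hinv := L.inv_ne F.card_P F.x_mem F.x_ne
    rw [Nat.card_eq_two_iff]
    refine ⟨⟨F.x, F.x_mem, F.x_ne, F.four_le_T L hR⟩, ⟨F.x⁻¹, inv_mem F.x_mem, inv_ne_one.2 F.x_ne,
      by rw [L.four_inv (F.hx L)]; exact F.four_le_T L hR⟩,
      fun e => hinv (congrArg Subtype.val e).symm, ?_⟩
    rw [Set.eq_univ_iff_forall]
    rintro ⟨z, hz, hz1, hzT⟩
    by_cases hzx : z ∈ zpowers F.x
    · rcases mem_zpowers_three (F.hx L) hzx with e | e | e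
      · exact absurd e hz1
      · left; exact Subtype.ext e
      · right; exact Subtype.ext e
    · exact absurd hzT (hno z hz hzx)
  rw [hc] at h
  rcases F.card_T L hR with e | e <;> rw [e] at h <;> omega

end Frame

end H78.M22R
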